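import Mathlib.Algebra.Homology.DerivedCategory.Ext.EnoughInjectives
import Mathlib.Algebra.Homology.DerivedCategory.Ext.ExtClass
import Mathlib.CategoryTheory.Abelian.Injective.Basic
import Mathlib

/-!
# Comparison of Ext groups along a left exact functor on acyclic objects
-/

universe w w' v v' u u'

set_option autoImplicit false
set_option linter.style.haveILetI false

open CategoryTheory CategoryTheory.Limits Abelian

namespace Groth.Agent.GaCoh3

theorem exists_equiv_of_surjective {A A' X X' : Type*} [AddCommGroup A] [AddCommGroup A'] [AddCommGroup X]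
    [AddCommGroup X'] (f : A →+ X) (g : A' →+ X') (hf : Function.Surjective f) (hg : Function.Surjective g)
    (e : A ≃+ A') (h : ∀ x, f x = 0 ↔ g (e x) = 0) : ∃ r : X ≃+ X', ∀ a, r (f a) = g (e a) := by
  choose s hs using hf
  have key : ∀ x y, f x = f y → g (e x) = g (e y) := fun x y hxy => by
    rw [← sub_eq_zero, ← map_sub, ← map_sub, ← h, map_sub, hxy, sub_self]
  let φ : X →+ X' := AddMonoidHom.mk' (fun x => g (e (s x))) fun x y => by
    rw [← map_add, ← map_add]
    exact key _ _ (by rw [hs, map_add, hs, hs])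
  refine ⟨AddEquiv.ofBijective φ ⟨(injective_iff_map_eq_zero φ).2 fun x hx => ?_, fun y => ?_⟩,
    fun a => key _ _ (hs _)⟩
  · rw [← hs x]
    exact (h _).2 hx
  · obtain ⟨a, rfl⟩ := hg y
    exact ⟨f (e.symm a), (key _ (e.symm a) (hs _)).trans (by rw [e.apply_symm_apply])⟩

variable {C : Type u} [Category.{v} C] [Abelian C] [HasExt.{w} C]
  {D : Type u'} [Category.{v'} D] [Abelian D] [HasExt.{w'} D]

section Step

variable {T : ShortComplex C} (hT : T.ShortExact) {A : C}

theorem postcomp_extClass_bijective [Injective T.X₂] (m : ℕ) :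
    Function.Bijective fun x : Ext A T.X₃ (m + 1) => x.comp hT.extClass (rfl : m + 1 + 1 = m + 2) := by
  refine ⟨(injective_iff_map_eq_zero (hT.extClass.postcomp A (rfl : m + 1 + 1 = m + 2))).2 fun x hx => ?_,
    fun x => Ext.covariant_sequence_exact₁ _ hT x (Ext.eq_zero_of_injective _) (n₀ := m + 1) rfl⟩
  obtain ⟨y, rfl⟩ := Ext.covariant_sequence_exact₃ _ hT _ rfl hx
  obtain rfl : y = 0 := Ext.eq_zero_of_injective y
  exact Ext.zero_comp _ _ _ _ _

theorem comp_extClass_comp (φ : T ⟶ T) {m : ℕ} (x : Ext A T.X₃ m) :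
    (x.comp hT.extClass (rfl : m + 1 = m + 1)).comp (Ext.mk₀ φ.τ₁) (add_zero (m + 1)) =
      (x.comp (Ext.mk₀ φ.τ₃) (add_zero m)).comp hT.extClass rfl := by
  rw [Ext.comp_assoc_of_third_deg_zero, ShortComplex.ShortExact.extClass_naturality hT hT φ,
    ← Ext.comp_assoc_of_second_deg_zero]

end Step

variable (R : C ⥤ D) [R.Additive] {A : C} {B : D} (η : B ⟶ R.obj A)

/-- A comparison of Ext groups, natural in endomorphisms of the argument. -/
def HasCompare (F : C) (n : ℕ) : Prop :=
  ∃ e : Ext.{w} A F n ≃+ Ext.{w'} B (R.obj F) n, ∀ (φ : F ⟶ F) (x : Ext A F n),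
    e (x.comp (Ext.mk₀ φ) (add_zero n)) = (e x).comp (Ext.mk₀ (R.map φ)) (add_zero n)

variable [EnoughInjectives C] (P : ObjectProperty C)
  (hη : ∀ Y, Function.Bijective fun x : A ⟶ Y => η ≫ R.map x)
  (hI : ∀ I : C, Injective I → Injective (R.obj I))
  (hP : ∀ (T : ShortComplex C), T.ShortExact → P T.X₁ → Injective T.X₂ → (T.map R).ShortExact ∧ P T.X₃)

include hη hI hP in
/-- On a class of acyclic objects the Ext groups are preserved. -/
theorem hasCompare : ∀ (n : ℕ) (F : C), P F → HasCompare.{w, w'} R (A := A) (B := B) F n := by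
  have h0 : ∀ Y, ∃ e : Ext A Y 0 ≃+ Ext B (R.obj Y) 0, ∀ x, e (Ext.mk₀ x) = Ext.mk₀ (η ≫ R.map x) :=
    fun Y => by
      let e : (A ⟶ Y) ≃+ (B ⟶ R.obj Y) := AddEquiv.ofBijective
        (AddMonoidHom.mk' (fun x => η ≫ R.map x) fun x y => by rw [R.map_add, Preadditive.comp_add]) (hη Y)
      refine ⟨Ext.addEquiv₀.trans (e.trans Ext.addEquiv₀.symm), fun x => ?_⟩
      show Ext.addEquiv₀.symm (e (Ext.addEquiv₀ (Ext.mk₀ x))) = _
      rw [← Ext.addEquiv₀_symm_apply, AddEquiv.apply_symm_apply]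
      rfl
  intro n
  induction n using Nat.strong_induction_on with
  | _ n ih =>
    intro F hF
    match n with
    | 0 =>
      obtain ⟨e, he⟩ := h0 F
      refine ⟨e, fun φ x => ?_⟩
      obtain ⟨x, rfl⟩ := (Ext.mk₀_bijective _ _).2 x
      rw [Ext.mk₀_comp_mk₀, he, he, Ext.mk₀_comp_mk₀, R.map_comp, Category.assoc]
    | n + 1 =>
      let T := ShortComplex.mk (Injective.ι F) (cokernel.π (Injective.ι F)) (cokernel.condition _)
      have hT : T.ShortExact :=
        { exact := ShortComplex.exact_of_g_is_cokernel _ (cokernelIsCokernel _) }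
      haveI : Injective T.X₂ := inferInstanceAs (Injective (Injective.under F))
      obtain ⟨hT', hP₃⟩ := hP T hT hF inferInstance
      haveI : Injective (T.map R).X₂ := hI _ ‹Injective T.X₂›
      have lift : ∀ φ : F ⟶ F, ∃ Φ : T ⟶ T, Φ.τ₁ = φ := fun φ => by
        let φ₂ : T.X₂ ⟶ T.X₂ := Injective.factorThru (φ ≫ Injective.ι F) (Injective.ι F)
        have h : Injective.ι F ≫ φ₂ = φ ≫ Injective.ι F := Injective.comp_factorThru _ _
        exact ⟨{ τ₁ := φ, τ₂ := φ₂
                 τ₃ := cokernel.map (Injective.ι F) (Injective.ι F) φ φ₂ h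
                 comm₁₂ := h.symm, comm₂₃ := (cokernel.π_desc _ _ _).symm }, rfl⟩
      let f : Ext A T.X₃ n →+ Ext A F (n + 1) := hT.extClass.postcomp _ rfl
      let g : Ext B (R.obj T.X₃) n →+ Ext B (R.obj F) (n + 1) := hT'.extClass.postcomp _ rfl
      have hf : Function.Surjective f := fun x =>
        Ext.covariant_sequence_exact₁ _ hT x (Ext.eq_zero_of_injective _) (n₀ := n) rfl
      have hg : Function.Surjective g := fun x =>
        Ext.covariant_sequence_exact₁ _ hT' x (Ext.eq_zero_of_injective _) (n₀ := n) rfl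
      suffices ∃ (e₃ : Ext A T.X₃ n ≃+ Ext B (R.obj T.X₃) n),
          (∀ (φ : T.X₃ ⟶ T.X₃) (x : Ext A T.X₃ n),
            e₃ (x.comp (Ext.mk₀ φ) (add_zero n)) = (e₃ x).comp (Ext.mk₀ (R.map φ)) (add_zero n)) ∧
          ∀ x, f x = 0 ↔ g (e₃ x) = 0 by
        obtain ⟨e₃, hnat, hker⟩ := this
        obtain ⟨r, hr⟩ := exists_equiv_of_surjective f g hf hg e₃ hker
        refine ⟨r, fun φ x => ?_⟩
        obtain ⟨a, rfl⟩ := hf x
        obtain ⟨Φ, rfl⟩ := lift φ
        have e1 : (f a).comp (Ext.mk₀ Φ.τ₁) (add_zero (n + 1)) = f (a.comp (Ext.mk₀ Φ.τ₃) (add_zero n)) :=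
          comp_extClass_comp hT Φ a
        have e2 : (g (e₃ a)).comp (Ext.mk₀ (R.mapShortComplex.map Φ).τ₁) (add_zero (n + 1)) =
            g ((e₃ a).comp (Ext.mk₀ (R.mapShortComplex.map Φ).τ₃) (add_zero n)) :=
          comp_extClass_comp hT' (R.mapShortComplex.map Φ) (e₃ a)
        rw [e1, hr, hr, hnat]
        exact e2.symm
      cases n with
      | zero =>
        obtain ⟨e, he⟩ := h0 T.X₃
        refine ⟨e, fun φ x => ?_, fun x => ?_⟩
        · obtain ⟨x, rfl⟩ := (Ext.mk₀_bijective _ _).2 x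
          rw [Ext.mk₀_comp_mk₀, he, he, Ext.mk₀_comp_mk₀, R.map_comp, Category.assoc]
        · obtain ⟨x, rfl⟩ := (Ext.mk₀_bijective _ _).2 x
          rw [he]
          constructor <;> intro hx
          · obtain ⟨y, hy⟩ := Ext.covariant_sequence_exact₃ _ hT _ rfl hx
            obtain ⟨y, rfl⟩ := (Ext.mk₀_bijective _ _).2 y
            rw [Ext.mk₀_comp_mk₀] at hy
            rw [← (Ext.mk₀_bijective _ _).1 hy, R.map_comp, ← Category.assoc, ← Ext.mk₀_comp_mk₀]
            show ((Ext.mk₀ (η ≫ R.map y)).comp (Ext.mk₀ (T.map R).g) (zero_add 0)).comp hT'.extClass (zero_add 1) = 0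
            exact (Ext.comp_assoc_of_second_deg_zero _ _ _ _).trans (by erw [hT'.comp_extClass, Ext.comp_zero])
          · obtain ⟨y, hy⟩ := Ext.covariant_sequence_exact₃ _ hT' _ rfl hx
            obtain ⟨y, rfl⟩ := (Ext.mk₀_bijective _ _).2 y
            obtain ⟨y, rfl⟩ := (hη T.X₂).2 y
            rw [Ext.mk₀_comp_mk₀] at hy
            have h1 : η ≫ R.map (y ≫ T.g) = η ≫ R.map x := by
              rw [R.map_comp, ← Category.assoc]
              exact (Ext.mk₀_bijective _ _).1 hy
            rw [← (hη _).1 h1, ← Ext.mk₀_comp_mk₀]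
            show ((Ext.mk₀ y).comp (Ext.mk₀ T.g) (zero_add 0)).comp hT.extClass (zero_add 1) = 0
            rw [Ext.comp_assoc_of_second_deg_zero, hT.comp_extClass, Ext.comp_zero]
      | succ m =>
        obtain ⟨e, he⟩ := ih (m + 1) (Nat.lt_succ_self _) T.X₃ hP₃
        refine ⟨e, he, fun x => ?_⟩
        have i1 : f x = 0 ↔ x = 0 := by
          refine ⟨fun h => (postcomp_extClass_bijective hT m).1 ?_, fun h => by rw [h, map_zero]⟩
          exact h.trans (map_zero f).symm
        have i2 : g (e x) = 0 ↔ e x = 0 := by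
          refine ⟨fun h => (postcomp_extClass_bijective hT' m).1 ?_, fun h => by rw [h, map_zero]⟩
          exact h.trans (map_zero g).symm
        rw [i1, i2, map_eq_zero_iff e e.injective]

end Groth.Agent.GaCoh3
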