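import Groth.Agent.Lib.GaCoh3.ULiftInj
import Groth.Agent.Lib.GaCoh3.ExtCompare

/-!
# Zariski cohomology does not depend on the universe
-/

universe u

set_option autoImplicit false
set_option linter.style.haveILetI false
set_option backward.isDefEq.respectTransparency false

open CategoryTheory CategoryTheory.Limits TopologicalSpace Opposite Abelian

namespace Groth.Agent.GaCoh3

variable (X : TopCat.{u})

instance essSmall_opens_up : EssentiallySmall.{u + 1} (Opens X) := essentiallySmall_of_small_of_locallySmall _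

instance grothendieckAbelian_up : IsGrothendieckAbelian.{u + 1} (Sheaf (Opens.grothendieckTopology X) AddCommGrpCat.{u + 1}) :=
  Sheaf.isGrothendieckAbelian_of_essentiallySmall _ _

instance grothendieckAbelian_low : IsGrothendieckAbelian.{u} (Sheaf (Opens.grothendieckTopology X) AddCommGrpCat.{u}) :=
  Sheaf.isGrothendieckAbelian_of_essentiallySmall _ _

instance preservesFiniteLimits_ulSheaf : PreservesFiniteLimits (ulSheaf X) := by
  haveI : PreservesFiniteLimits (ulSheaf X ⋙ sheafToPresheaf _ _) :=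
    inferInstanceAs (PreservesFiniteLimits
      (sheafToPresheaf _ _ ⋙ (Functor.whiskeringRight _ _ _).obj AddCommGrpCat.uliftFunctor.{u + 1}))
  exact preservesFiniteLimits_of_reflects_of_preserves (ulSheaf X) (sheafToPresheaf _ _)

instance additive_ulSheaf : (ulSheaf X).Additive := Functor.additive_of_preserves_binary_products _

theorem shortExact_ulSheaf {T : ShortComplex (Sheaf (Opens.grothendieckTopology X) AddCommGrpCat.{u})}
    (hT : T.ShortExact) : (T.map (ulSheaf X)).ShortExact := by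
  haveI := hT.mono_f
  haveI := hT.epi_g
  haveI : Sheaf.IsLocallySurjective T.g := (Sheaf.isLocallySurjective_iff_epi' _ T.g).2 inferInstance
  have hm : Mono ((ulSheaf X).map T.f) := inferInstance
  refine ShortComplex.ShortExact.mk' (hT.exact.map_of_mono_of_preservesKernel _ inferInstance inferInstance) hm ?_
  haveI : Sheaf.IsLocallySurjective ((ulSheaf X).map T.g) := by
    refine ⟨fun {U} s x hx => ?_⟩
    obtain ⟨V, i, ⟨t, ht⟩, hxV⟩ := Presheaf.imageSieve_mem (Opens.grothendieckTopology X) T.g.hom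
      (U := op U) (show T.X₃.obj.obj (op U) from ULift.down s) x hx
    exact ⟨V, i, ⟨ULift.up t, ULift.ext _ _ ht⟩, hxV⟩
  exact Sheaf.epi_of_isLocallySurjective ((ulSheaf X).map T.g)

/-- The constant sheaves `ℤ` in the two universes. -/
theorem exists_homEquiv_ulSheaf :
    ∃ η : (constantSheaf (Opens.grothendieckTopology X) AddCommGrpCat.{u + 1}).obj (AddCommGrpCat.of (ULift.{u + 1} ℤ)) ⟶
        (ulSheaf X).obj ((constantSheaf (Opens.grothendieckTopology X) AddCommGrpCat.{u}).obj (AddCommGrpCat.of (ULift.{u} ℤ))),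
      ∀ Y, Function.Bijective fun x => η ≫ (ulSheaf X).map (Y := Y) x := by
  let Z := AddCommGrpCat.of (ULift.{u} ℤ)
  let Z' := AddCommGrpCat.of (ULift.{u + 1} ℤ)
  let a := constantSheafAdj (Opens.grothendieckTopology X) AddCommGrpCat.{u} (isTerminalTop : IsTerminal (⊤ : Opens X))
  let b := constantSheafAdj (Opens.grothendieckTopology X) AddCommGrpCat.{u + 1} (isTerminalTop : IsTerminal (⊤ : Opens X))
  let sh : Z' ⟶ AddCommGrpCat.uliftFunctor.{u + 1}.obj Z :=
    AddCommGrpCat.ofHom (AddMonoidHom.mk' (fun x => ⟨⟨x.down⟩⟩) fun _ _ => rfl)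
  have hsh : ∀ M : AddCommGrpCat.{u}, Function.Bijective fun z : Z ⟶ M => sh ≫ AddCommGrpCat.uliftFunctor.{u + 1}.map z := by
    intro M
    refine ⟨fun z z' e => AddCommGrpCat.ext fun x => ?_, fun w => ?_⟩
    · obtain ⟨k⟩ := x
      exact congrArg ULift.down (ConcreteCategory.congr_hom e (⟨k⟩ : ULift.{u + 1} ℤ))
    · refine ⟨AddCommGrpCat.ofHom (AddMonoidHom.mk' (fun x => (w ⟨x.down⟩).down) fun x y => ?_), AddCommGrpCat.ext fun x => rfl⟩
      exact congrArg ULift.down (map_add w.hom ⟨x.down⟩ ⟨y.down⟩)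
  refine ⟨(b.homEquiv Z' ((ulSheaf X).obj ((constantSheaf (Opens.grothendieckTopology X) AddCommGrpCat.{u}).obj Z))).symm
    (sh ≫ AddCommGrpCat.uliftFunctor.{u + 1}.map (a.homEquiv Z _ (𝟙 _))), fun Y => ?_⟩
  have e : (fun x : (constantSheaf _ _).obj Z ⟶ Y =>
      (b.homEquiv Z' ((ulSheaf X).obj ((constantSheaf (Opens.grothendieckTopology X) AddCommGrpCat.{u}).obj Z))).symm
        (sh ≫ AddCommGrpCat.uliftFunctor.{u + 1}.map (a.homEquiv Z _ (𝟙 _))) ≫ (ulSheaf X).map x) =
      fun x => (b.homEquiv Z' ((ulSheaf X).obj Y)).symm (sh ≫ AddCommGrpCat.uliftFunctor.{u + 1}.map (a.homEquiv Z Y x)) :=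
    funext fun x => by
      refine (b.homEquiv_naturality_right_symm _ _).symm.trans (congrArg (b.homEquiv Z' ((ulSheaf X).obj Y)).symm ?_)
      refine (Category.assoc _ _ _).trans (congrArg (sh ≫ ·) ?_)
      have h1 := a.homEquiv_naturality_right (𝟙 ((constantSheaf _ _).obj Z)) x
      rw [Category.id_comp] at h1
      rw [h1]
      exact (AddCommGrpCat.uliftFunctor.{u + 1}.map_comp _ _).symm
  rw [e]
  exact (b.homEquiv Z' _).symm.bijective.comp ((hsh _).comp (a.homEquiv Z Y).bijective)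

/-- Cohomology of a sheaf on a space does not depend on the universe. -/
theorem hasCompare_ulSheaf (F : Sheaf (Opens.grothendieckTopology X) AddCommGrpCat.{u}) (n : ℕ) :
    ∃ e : Sheaf.H F n ≃+ Sheaf.H ((ulSheaf X).obj F) n, ∀ (φ : F ⟶ F) (x : Sheaf.H F n),
      e (Sheaf.H.map φ n x) = Sheaf.H.map ((ulSheaf X).map φ) n (e x) := by
  obtain ⟨η, hη⟩ := exists_homEquiv_ulSheaf X
  obtain ⟨e, he⟩ := hasCompare (ulSheaf X) η ⊤ hη
    (fun I hI => haveI := hI; injective_ulSheaf_obj I) (fun T hT _ _ => ⟨shortExact_ulSheaf X hT, trivial⟩) n F trivial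
  exact ⟨e, he⟩

end Groth.Agent.GaCoh3
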