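import Groth.Agent.Lib.GaCoh3.Vanish
import Groth.Agent.Lib.GaCoh3.ULiftCompare
import Groth.Agent.Lib.BigSite16.LanExact
import Groth.Prelude.Def_EtZar
import Groth.Prelude.Def_Coh

/-!
# Étale and Zariski cohomology of sheaves with exact Čech complexes
-/

universe u

set_option autoImplicit false
set_option linter.style.haveILetI false
set_option maxHeartbeats 800000
set_option backward.isDefEq.respectTransparency false
set_option backward.isDefEq.respectTransparency.types false

open CategoryTheory CategoryTheory.Limits AlgebraicGeometry TopologicalSpace Opposite Abelian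

namespace Groth.Agent.GaCoh3

variable (X : Scheme.{u})

/-- The whole scheme is the image of the whole open. -/
noncomputable def zarToEtTerminal : IsTerminal ((EtZar.zarToEt X).obj ⊤) :=
  (Groth.Agent.ExtShriek24.isTerminalTopObj X).ofIso
    (MorphismProperty.Over.isoMk X.topIso.symm X.topIso.inv_hom_id)

instance preservesPullbacks_zarToEt : PreservesLimitsOfShape WalkingCospan (EtZar.zarToEt X) := by
  haveI : ∀ {U V W : X.Opens} (f : U ⟶ W) (g : V ⟶ W), PreservesLimit (cospan f g) (EtZar.zarToEt X) := by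
    intro U V W f g
    let a : U ⊓ V ⟶ U := homOfLE inf_le_left
    let b : U ⊓ V ⟶ V := homOfLE inf_le_right
    have w : a ≫ f = b ≫ g := Subsingleton.elim _ _
    have h : IsLimit (PullbackCone.mk a b w) := PullbackCone.IsLimit.mk w
      (fun s => homOfLE (le_inf s.fst.le s.snd.le)) (fun _ => Subsingleton.elim _ _) (fun _ => Subsingleton.elim _ _)
      (fun _ _ _ _ => Subsingleton.elim _ _)
    have h' : IsPullback ((EtZar.zarToEt X).map a) ((EtZar.zarToEt X).map b) ((EtZar.zarToEt X).map f)
        ((EtZar.zarToEt X).map g) :=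
      IsPullback.of_map (Scheme.Etale.forget X ⋙ Over.forget X)
        (by rw [← Functor.map_comp, ← Functor.map_comp, w]) (isPullback_opens_inf_le f.le g.le)
    exact preservesLimit_of_preserves_limit_cone h ((isLimitMapConePullbackConeEquiv _ w).symm h'.isLimit)
  exact ⟨fun {K} => preservesLimit_of_iso_diagram _ (diagramIsoCospan K).symm⟩

instance preservesFiniteLimits_zarToEt : PreservesFiniteLimits (EtZar.zarToEt X) := by
  haveI : PreservesLimit (Functor.empty.{0} X.Opens) (EtZar.zarToEt X) :=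
    preservesLimit_of_preserves_limit_cone (isTerminalTop : IsTerminal (⊤ : X.Opens))
      (isLimitChangeEmptyCone _ (zarToEtTerminal X) _ (Iso.refl _))
  haveI := preservesLimitsOfShape_pempty_of_preservesTerminal (EtZar.zarToEt X)
  exact preservesFiniteLimits_of_preservesTerminal_and_pullbacks _

instance zarCont : EtZar.ZarCont X := by
  haveI : RepresentablyFlat (EtZar.zarToEt X) := flat_of_preservesFiniteLimits _
  refine Functor.isContinuous_of_coverPreserving (compatiblePreservingOfFlat X.smallEtaleTopology _) ⟨fun {U R} hR => ?_⟩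
  rw [Groth.Agent.EtSite.mem_et_iff]
  intro x
  obtain ⟨V, i, hi, hxV⟩ := hR x.1 x.2
  exact ⟨_, (EtZar.zarToEt X).map i, (⟨x.1, hxV⟩ : (V : Scheme.{u})), Sieve.image_mem_functorPushforward _ _ hi,
      Subtype.ext (congrArg (fun f => f.base (⟨x.1, hxV⟩ : (V : Scheme.{u}))) (X.homOfLE_ι i.le))⟩

theorem preservesFiniteLimits_zarPull : PreservesFiniteLimits
    ((EtZar.zarToEt X).sheafPullback AddCommGrpCat.{u + 1} (Opens.grothendieckTopology X) X.smallEtaleTopology) :=
  Groth.Agent.BigSite16.preservesFiniteLimits_sheafPullback.{u + 1} (EtZar.zarToEt X) _ _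

variable {X}

theorem shortExact_resZar {T : ShortComplex (EtCoh.Ab X)} (hT : T.ShortExact) (h1 : AcycAff T.X₁) :
    (T.map (EtZar.resZar X)).ShortExact := by
  haveI := hT.mono_f
  haveI := ((EtZar.zarToEt X).sheafAdjunctionContinuous AddCommGrpCat.{u + 1}
    (Opens.grothendieckTopology X) X.smallEtaleTopology).isRightAdjoint
  have hm : Mono ((EtZar.resZar X).map T.f) := inferInstance
  refine ShortComplex.ShortExact.mk' (hT.exact.map_of_mono_of_preservesKernel _ inferInstance inferInstance) hm ?_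
  haveI : Sheaf.IsLocallySurjective ((EtZar.resZar X).map T.g) := by
    refine ⟨fun {U} s x hx => ?_⟩
    obtain ⟨_, ⟨V, hV, rfl⟩, hxV, hle⟩ := X.isBasis_affineOpens.exists_subset_of_mem_open hx U.2
    haveI : IsAffine ((EtZar.zarToEt X).obj V).left := hV
    refine ⟨V, homOfLE hle, ?_, hxV⟩
    exact surjective_of_acycAff hT h1 ((EtZar.zarToEt X).obj V) _
  exact Sheaf.epi_of_isLocallySurjective ((EtZar.resZar X).map T.g)

variable (X)

theorem exists_homEquiv_resZar :
    ∃ η : (constantSheaf (Opens.grothendieckTopology X) AddCommGrpCat.{u + 1}).obj (AddCommGrpCat.of (ULift.{u + 1} ℤ)) ⟶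
        (EtZar.resZar X).obj ((constantSheaf X.smallEtaleTopology AddCommGrpCat.{u + 1}).obj (AddCommGrpCat.of (ULift.{u + 1} ℤ))),
      ∀ Y, Function.Bijective fun x => η ≫ (EtZar.resZar X).map (Y := Y) x := by
  let R := EtZar.resZar X
  let Z := AddCommGrpCat.of (ULift.{u + 1} ℤ)
  let aC := constantSheafAdj (Opens.grothendieckTopology X) AddCommGrpCat.{u + 1} (isTerminalTop : IsTerminal (⊤ : X.Opens))
  let aD := constantSheafAdj X.smallEtaleTopology AddCommGrpCat.{u + 1} (zarToEtTerminal X)
  refine ⟨(aC.homEquiv Z (R.obj _)).symm (aD.homEquiv Z _ (𝟙 _)), fun Y => ?_⟩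
  have e : (fun x : (constantSheaf X.smallEtaleTopology AddCommGrpCat.{u + 1}).obj Z ⟶ Y =>
      (aC.homEquiv Z (R.obj _)).symm (aD.homEquiv Z _ (𝟙 _)) ≫ R.map x) =
      fun x => (aC.homEquiv Z (R.obj Y)).symm (aD.homEquiv Z Y x) := funext fun x => by
    refine (aC.homEquiv_naturality_right_symm _ _).symm.trans (congrArg (aC.homEquiv Z (R.obj Y)).symm ?_)
    exact (aD.homEquiv_naturality_right _ x).symm.trans (congrArg _ (Category.id_comp x))
  rw [e]
  exact (aC.homEquiv Z (R.obj Y)).symm.bijective.comp (aD.homEquiv Z Y).bijective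

/-- Étale cohomology of a sheaf with exact Čech complexes is Zariski cohomology. -/
theorem hasCompare_resZar (F : EtCoh.Ab X) (hF : AcycAff F) (n : ℕ) :
    ∃ e : EtCoh.H X F n ≃+ EtZar.H ((EtZar.resZar X).obj F) n, ∀ (φ : F ⟶ F) (x : EtCoh.H X F n),
      e (Sheaf.H.map φ n x) = Sheaf.H.map ((EtZar.resZar X).map φ) n (e x) := by
  obtain ⟨η, hη⟩ := exists_homEquiv_resZar X
  haveI := preservesFiniteLimits_zarPull X
  haveI : (EtZar.resZar X).Additive := { map_add := rfl }
  obtain ⟨e, he⟩ := hasCompare (EtZar.resZar X) η AcycAff hη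
    (fun I hI => haveI := hI; Injective.injective_of_adjoint
      ((EtZar.zarToEt X).sheafAdjunctionContinuous AddCommGrpCat.{u + 1}
        (Opens.grothendieckTopology X) X.smallEtaleTopology) I)
    (fun T hT h1 hI => ⟨shortExact_resZar hT h1, acycAff_X₃ hT h1 (haveI := hI; acycAff_of_injective _)⟩) n F hF
  exact ⟨e, he⟩

/-- Restricting `G_a` to the opens gives the structure sheaf. -/
noncomputable def resZarGaIso :
    (EtZar.resZar X).obj (EtCoh.Ga X) ≅ (ulSheaf X.toTopCat).obj (Coh.toAb (Coh.structureModule X)) :=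
  (fullyFaithfulSheafToPresheaf _ _).preimageIso
    (NatIso.ofComponents
      (fun U => AddCommGrpCat.uliftFunctor.{u + 1}.mapIso
        ((forget₂ RingCat AddCommGrpCat).mapIso ((forget₂ CommRingCat RingCat).mapIso (Scheme.Opens.topIso U.unop))))
      fun {U V} i => by
        ext ⟨x⟩
        refine ULift.ext _ _ ?_
        show (Scheme.Opens.topIso V.unop).hom ((X.homOfLE i.unop.le).appTop x) = X.presheaf.map i ((Scheme.Opens.topIso U.unop).hom x)
        rw [← ConcreteCategory.comp_apply, ← ConcreteCategory.comp_apply]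
        have h : (X.homOfLE i.unop.le).appTop ≫ (Scheme.Opens.topIso V.unop).hom =
            (Scheme.Opens.topIso U.unop).hom ≫ X.presheaf.map i := by
          rw [Scheme.homOfLE_appTop, Scheme.Opens.topIso_hom, Scheme.Opens.topIso_hom, ← Functor.map_comp]
          erw [← Functor.map_comp]
          rfl
        exact congr($h x))

/-- Étale cohomology of `G_a` is Zariski cohomology of the structure sheaf, compatibly with endomorphisms. -/
theorem exists_H_Ga_equiv (n : ℕ) :
    ∃ e : EtCoh.H X (EtCoh.Ga X) n ≃+ Coh.HH X (Coh.structureModule X) n,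
      ∀ (φ : EtCoh.Ga X ⟶ EtCoh.Ga X) (ψ : Coh.toAb (Coh.structureModule X) ⟶ Coh.toAb (Coh.structureModule X)),
        (EtZar.resZar X).map φ ≫ (resZarGaIso X).hom = (resZarGaIso X).hom ≫ (ulSheaf X.toTopCat).map ψ →
        ∀ x, e (Sheaf.H.map φ n x) = Sheaf.H.map ψ n (e x) := by
  obtain ⟨e₁, h₁⟩ := hasCompare_resZar X (EtCoh.Ga X) acycAff_Ga n
  obtain ⟨e₂, h₂⟩ := hasCompare_ulSheaf X.toTopCat (Coh.toAb (Coh.structureModule X)) n
  let m := Ext.mk₀ (resZarGaIso X).hom
  let m' := Ext.mk₀ (resZarGaIso X).inv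
  let e₀ : EtZar.H ((EtZar.resZar X).obj (EtCoh.Ga X)) n ≃+
      Sheaf.H ((ulSheaf X.toTopCat).obj (Coh.toAb (Coh.structureModule X))) n :=
    { toFun := fun x => Sheaf.H.map (resZarGaIso X).hom n x
      invFun := fun x => Sheaf.H.map (resZarGaIso X).inv n x
      left_inv := fun x => by
        show (x.comp m (add_zero n)).comp m' (add_zero n) = x
        rw [Ext.comp_assoc_of_third_deg_zero, Ext.mk₀_comp_mk₀, Iso.hom_inv_id, Ext.comp_mk₀_id]
      right_inv := fun x => by
        show (x.comp m' (add_zero n)).comp m (add_zero n) = x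
        rw [Ext.comp_assoc_of_third_deg_zero, Ext.mk₀_comp_mk₀, Iso.inv_hom_id, Ext.comp_mk₀_id]
      map_add' := fun x y => map_add _ x y }
  refine ⟨e₁.trans (e₀.trans e₂.symm), fun φ ψ h x => ?_⟩
  show e₂.symm (e₀ (e₁ _)) = _
  rw [h₁]
  apply e₂.injective
  refine Eq.trans ?_ (h₂ _ _).symm
  show e₂ (e₂.symm _) = Sheaf.H.map _ n (e₂ (e₂.symm _))
  rw [e₂.apply_symm_apply, e₂.apply_symm_apply]
  show ((e₁ x).comp _ (add_zero n)).comp m (add_zero n) = ((e₁ x).comp m (add_zero n)).comp _ (add_zero n)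
  rw [Ext.comp_assoc_of_third_deg_zero, Ext.comp_assoc_of_third_deg_zero, Ext.mk₀_comp_mk₀, Ext.mk₀_comp_mk₀, h]

end Groth.Agent.GaCoh3
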