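import Groth.Agent.Lib.SigmaLin.Basic
import Groth.Agent.Lib.SigmaFix.Basic

/-!
# Frobenius semilinear endomorphisms over separably closed fields
-/

universe u v

set_option autoImplicit false

namespace Groth.Agent.GaCoh3

open Groth.Agent.SigmaLinLib

variable {k : Type u} [Field k] [IsSepClosed k] (p : ℕ) [Fact p.Prime] [CharP k p]
  {V : Type u} [AddCommGroup V] [Module k V] [FiniteDimensional k V]
  (F : V →+ V) (hF : ∀ (c : k) (v : V), F (c • v) = c ^ p • F v)

include hF in
theorem frob_sub_surjective : Function.Surjective fun v => F v - v := by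
  intro v
  let T := ofQLinear (r := 1) (p := p) F (fun c v => by rw [pow_one]; exact hF c v)
  obtain ⟨y, hy⟩ := Groth.Agent.SigmaLinLib.sub_surjective T
    (cond2_frobenius k p 1 one_pos) (cond3_frobenius k p 1 one_pos) (-v)
  refine ⟨y, ?_⟩
  have hy' : y - F y = -v := hy
  show F y - y = v
  rw [← neg_sub, hy', neg_neg]

include hF in
theorem frob_fixed_finite : Set.Finite {v : V | F v = v} := by
  let T := ofQLinear (r := 1) (p := p) F (fun c v => by rw [pow_one]; exact hF c v)
  obtain ⟨B, hB⟩ := exists_basis_fixed (Tss T) (span_range_Tss T)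
    (cond2_frobenius k p 1 one_pos) (cond3_frobenius k p 1 one_pos)
  obtain ⟨N, -, hinf⟩ := W_stab T
  let b : _ → V := fun i => (B i : V)
  have hli : LinearIndependent k b :=
    B.linearIndependent.map' (⨅ n, W T n).subtype (Submodule.ker_subtype _)
  have hb : ∀ i, F (b i) = b i := fun i => congrArg Subtype.val (hB i)
  haveI := (Groth.Agent.SigmaFix.finite_roots p k).1.to_subtype
  refine (Set.finite_range fun c : _ → {c : k | c ^ p = c} => ∑ i, (c i : k) • b i).subset fun v hv => ?_
  have hv' : v ∈ ⨅ n, W T n := by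
    rw [hinf, show v = (⇑T)^[N] v from (Function.iterate_fixed (f := ⇑T) hv N).symm]
    exact Submodule.subset_span ⟨v, rfl⟩
  obtain ⟨c, hc⟩ : ∃ c : _ → k, ∑ i, c i • b i = v := ⟨fun i => B.repr ⟨v, hv'⟩ i, by
    have h := congrArg Subtype.val (B.sum_repr ⟨v, hv'⟩)
    rw [AddSubmonoidClass.coe_finsetSum] at h
    exact h⟩
  have h1 : F (∑ i, c i • b i) = ∑ i, c i • b i := by rw [hc]; exact hv
  rw [map_sum] at h1
  simp only [hF, hb] at h1
  have h2 : ∀ i, c i ^ p = c i := fun i => sub_eq_zero.mp
    (Fintype.linearIndependent_iff.mp hli (fun i => c i ^ p - c i)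
      (by simp [sub_smul, Finset.sum_sub_distrib, h1]) i)
  exact ⟨fun i => ⟨c i, h2 i⟩, hc⟩

end Groth.Agent.GaCoh3
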