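import Groth.Agent.Lib.GaCoh3.AS
import Groth.Agent.Lib.GaCoh3.EtZarCompare
import Groth.Agent.Lib.GaCoh3.FrobSep
import Groth.Agent.Lib.AssPts11.Basic
import Groth.Agent.S0002
import Groth.Agent.S0469

/-!
# The Artin–Schreier endomorphism on cohomology
-/

universe u

set_option autoImplicit false
set_option linter.style.haveILetI false
set_option backward.isDefEq.respectTransparency false
set_option backward.isDefEq.respectTransparency.types false

open CategoryTheory CategoryTheory.Limits AlgebraicGeometry TopologicalSpace Opposite Abelian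

namespace Groth.Agent.GaCoh3

variable {X : Scheme.{u}} (p : ℕ) [Fact p.Prime] (h0 : (p : Γ(X, ⊤)) = 0)

include h0 in
theorem natCast_eq_zero_opens (U : X.Opens) : (p : Γ(X, U)) = 0 := by
  rw [← map_natCast (X.presheaf.map (homOfLE (le_top (a := U))).op).hom, h0, map_zero]

/-- The Frobenius endomorphism of the abelian sheaf underlying the structure sheaf. -/
noncomputable def frobAb : Coh.toAb (Coh.structureModule X) ⟶ Coh.toAb (Coh.structureModule X) :=
  ⟨{ app := fun U => AddCommGrpCat.ofHom (AddMonoidHom.mk' (fun x : Γ(X, U.unop) => x ^ p)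
        fun x y => W4c5etcohweilstudent.add_pow_prime_of_natCast_eq_zero p Fact.out
          (natCast_eq_zero_opens p h0 U.unop) x y)
     naturality := by
       intro U V i
       refine AddCommGrpCat.ext fun (x : Γ(X, U.unop)) => ?_
       exact (map_pow (X.presheaf.map i).hom x p).symm }⟩

theorem frobAb_app (U : (Opens X)ᵒᵖ) (x : Γ(X, U.unop)) : (frobAb p h0).hom.app U x = x ^ p := rfl

/-- The Artin–Schreier endomorphism of the abelian sheaf underlying the structure sheaf. -/
noncomputable def asAb : Coh.toAb (Coh.structureModule X) ⟶ Coh.toAb (Coh.structureModule X) :=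
  frobAb p h0 - 𝟙 _

theorem resZar_artinSchreier :
    (EtZar.resZar X).map (W4c5etcohweilstudent.artinSchreierEndo X p Fact.out h0) ≫ (resZarGaIso X).hom =
      (resZarGaIso X).hom ≫ (ulSheaf X.toTopCat).map (asAb p h0) := by
  refine Sheaf.hom_ext (NatTrans.ext (funext fun U => AddCommGrpCat.ext fun ⟨x⟩ => ?_))
  refine ULift.ext _ _ ?_
  let t := (Scheme.Opens.topIso U.unop).hom
  let x' : Γ((Scheme.Opens.toScheme U.unop), ⊤) := x
  show t (x' ^ p - x') = (t x' : Γ(X, U.unop)) ^ p - t x'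
  rw [map_sub, map_pow]

theorem smulAb_frobAb (r : Coh.Γtop X) :
    Coh.smulAb (Coh.structureModule X) r ≫ frobAb p h0 =
      frobAb p h0 ≫ Coh.smulAb (Coh.structureModule X) (r ^ p) := by
  refine Sheaf.hom_ext (NatTrans.ext (funext fun U => AddCommGrpCat.ext fun (x : Γ(X, U.unop)) => ?_))
  let ρ : Coh.Γtop X →+* Γ(X, U.unop) := Coh.resTop X U
  show (ρ r * x) ^ p = ρ (r ^ p) * x ^ p
  rw [map_pow, mul_pow]

theorem H_map_frobAb_smul (n : ℕ) (r : Coh.Γtop X) (x : Coh.HH X (Coh.structureModule X) n) :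
    Sheaf.H.map (frobAb p h0) n (r • x) = r ^ p • Sheaf.H.map (frobAb p h0) n x := by
  show Sheaf.H.map (frobAb p h0) n (Sheaf.H.map (Coh.smulAb _ r) n x) =
    Sheaf.H.map (Coh.smulAb _ (r ^ p)) n (Sheaf.H.map (frobAb p h0) n x)
  rw [← Sheaf.H.map_comp_apply, ← Sheaf.H.map_comp_apply, smulAb_frobAb]

theorem H_map_asAb (n : ℕ) (x : Coh.HH X (Coh.structureModule X) n) :
    Sheaf.H.map (asAb p h0) n x = Sheaf.H.map (frobAb p h0) n x - x := by
  have h : asAb p h0 + 𝟙 _ = frobAb p h0 := sub_add_cancel _ _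
  rw [← h, Sheaf.H.map_add_apply, Sheaf.H.map_id_apply, add_sub_cancel_right]

section Proper

variable {k : Type u} [Field k] [IsSepClosed k] [CharP k p] (f : X ⟶ Spec (CommRingCat.of k)) [IsProper f]

include f in
theorem asAb_surjective_and_finite (n : ℕ) :
    Function.Surjective (Sheaf.H.map (asAb p h0) n) ∧
      Set.Finite {x : Coh.HH X (Coh.structureModule X) n | Sheaf.H.map (asAb p h0) n x = 0} := by
  letI : X.Over (Spec (CommRingCat.of k)) := ⟨f⟩
  haveI : IsProper (X ↘ Spec (CommRingCat.of k)) := ‹IsProper f›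
  haveI : IsLocallyNoetherian X := LocallyOfFiniteType.isLocallyNoetherian f
  haveI : Module.Finite k (Coh.HH X (Coh.structureModule X) n) :=
    Groth.Agent.S0002.result k X _ (M1.isCoh_structureModule X) n
  let F : Coh.HH X (Coh.structureModule X) n →+ Coh.HH X (Coh.structureModule X) n :=
    Sheaf.H.map (frobAb p h0) n
  have hF : ∀ (c : k) x, F (c • x) = c ^ p • F x := fun c x => by
    show Sheaf.H.map (frobAb p h0) n (Coh.toGlobal (X ↘ Spec (CommRingCat.of k)) c • x) =
      Coh.toGlobal (X ↘ Spec (CommRingCat.of k)) (c ^ p) • Sheaf.H.map (frobAb p h0) n x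
    rw [H_map_frobAb_smul, map_pow]
  refine ⟨fun y => ?_, ?_⟩
  · obtain ⟨x, hx⟩ := frob_sub_surjective p F hF y
    exact ⟨x, (H_map_asAb p h0 n x).trans hx⟩
  · refine (frob_fixed_finite p F hF).subset fun x hx => ?_
    exact sub_eq_zero.1 ((H_map_asAb p h0 n x).symm.trans hx)

include f in
theorem artinSchreier_surjective_and_finite (n : ℕ) :
    Function.Surjective (Sheaf.H.map (W4c5etcohweilstudent.artinSchreierEndo X p Fact.out h0) n) ∧
      Set.Finite {x : EtCoh.H X (EtCoh.Ga X) n |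
        Sheaf.H.map (W4c5etcohweilstudent.artinSchreierEndo X p Fact.out h0) n x = 0} := by
  obtain ⟨e, he⟩ := exists_H_Ga_equiv X n
  have hc := he _ _ (resZar_artinSchreier p h0)
  obtain ⟨hs, hf⟩ := asAb_surjective_and_finite p h0 f n
  refine ⟨fun y => ?_, ?_⟩
  · obtain ⟨x, hx⟩ := hs (e y)
    refine ⟨e.symm x, e.injective ?_⟩
    rw [hc, e.apply_symm_apply, hx]
  · refine (hf.preimage e.injective.injOn).subset fun x hx => ?_
    show Sheaf.H.map (asAb p h0) n (e x) = 0
    rw [← hc, show Sheaf.H.map (W4c5etcohweilstudent.artinSchreierEndo X p Fact.out h0) n x = 0 from hx, map_zero]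

end Proper

section Dim

theorem subsingleton_H_Ga_above_dim (X : Scheme.{u}) [CompactSpace X] [QuasiSeparatedSpace X] (d : ℕ)
    (hd : topologicalKrullDim X ≤ d) (n : ℕ) (hn : d < n) : Subsingleton (EtCoh.H X (EtCoh.Ga X) n) := by
  obtain ⟨e, -⟩ := exists_H_Ga_equiv X n
  haveI : SpectralSpace X.toTopCat :=
    have : SpectralSpace X := { }
    this
  haveI : Subsingleton (Coh.HH X (Coh.structureModule X) n) :=
    Groth.Agent.S0469.result (X := X.toTopCat) d hd (Coh.toAb (Coh.structureModule X)) n hn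
  exact e.toEquiv.subsingleton

end Dim

include h0 in
theorem finite_H_zmod {k : Type u} [Field k] [IsSepClosed k] [CharP k p] (f : X ⟶ Spec (CommRingCat.of k))
    [IsProper f] (q : ℕ) : Finite (EtCoh.H X (EtCoh.const X (ZMod p)) q) := by
  let g : EtCoh.H X (EtCoh.const X (ZMod p)) q →+ EtCoh.H X (EtCoh.Ga X) q := Sheaf.H.map (asι p h0) q
  have hinj : Function.Injective g := by
    refine (injective_iff_map_eq_zero g).2 fun y hy => ?_
    cases q with
    | zero =>
      haveI := mono_asι p h0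
      obtain ⟨y, rfl⟩ := (Ext.mk₀_bijective _ _).2 y
      have h : Ext.mk₀ (y ≫ asι p h0) = 0 := (Ext.mk₀_comp_mk₀ y (asι p h0)).symm.trans hy
      rw [Ext.mk₀_eq_zero_iff] at h
      rw [Ext.mk₀_eq_zero_iff, ← cancel_mono (asι p h0), h, zero_comp]
    | succ n =>
      obtain ⟨z, rfl⟩ := Ext.covariant_sequence_exact₁ _ (asSeq_shortExact p h0) y hy (n₀ := n) rfl
      obtain ⟨w, rfl⟩ := (artinSchreier_surjective_and_finite p h0 f n).1 z
      show (w.comp (Ext.mk₀ (asSeq p h0).g) (add_zero n)).comp (asSeq_shortExact p h0).extClass rfl = 0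
      rw [Ext.comp_assoc_of_second_deg_zero, (asSeq_shortExact p h0).comp_extClass, Ext.comp_zero]
  haveI := (artinSchreier_surjective_and_finite p h0 f q).2.to_subtype
  refine Finite.of_injective (fun y => (⟨g y, ?_⟩ : {x : EtCoh.H X (EtCoh.Ga X) q |
    Sheaf.H.map (W4c5etcohweilstudent.artinSchreierEndo X p Fact.out h0) q x = 0})) fun a b e =>
      hinj (congrArg Subtype.val e)
  show Sheaf.H.map (W4c5etcohweilstudent.artinSchreierEndo X p Fact.out h0) q (Sheaf.H.map (asι p h0) q y) = 0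
  rw [← Sheaf.H.map_comp_apply, asι_comp]
  show ((Sheaf.functorH _ q).map (0 : EtCoh.const X (ZMod p) ⟶ EtCoh.Ga X)).hom y = 0
  rw [Functor.map_zero]
  rfl

include h0 in
theorem subsingleton_H_zmod_above_dim [CompactSpace X] [QuasiSeparatedSpace X] (d : ℕ)
    (hd : topologicalKrullDim X ≤ d) (q : ℕ) (hq : d + 2 ≤ q) :
    Subsingleton (EtCoh.H X (EtCoh.const X (ZMod p)) q) := by
  obtain ⟨n, rfl⟩ : ∃ n, q = n + 1 := ⟨q - 1, by omega⟩
  exact subsingleton_H_zmod p h0 (subsingleton_H_Ga_above_dim X d hd _ (by omega))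
    (subsingleton_H_Ga_above_dim X d hd _ (by omega))

include h0 in
theorem subsingleton_H_zmod_proper {k : Type u} [Field k] [IsSepClosed k] [CharP k p]
    (f : X ⟶ Spec (CommRingCat.of k)) [IsProper f] (d : ℕ)
    (hd : topologicalKrullDim X ≤ d) (q : ℕ) (hq : d + 1 ≤ q) :
    Subsingleton (EtCoh.H X (EtCoh.const X (ZMod p)) q) := by
  haveI : CompactSpace X := QuasiCompact.compactSpace_of_compactSpace f
  haveI : QuasiSeparatedSpace X := quasiSeparatedSpace_of_quasiSeparated f
  obtain ⟨n, rfl⟩ : ∃ n, q = n + 1 := ⟨q - 1, by omega⟩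
  refine subsingleton_of_forall_eq 0 fun y => ?_
  obtain ⟨z, rfl⟩ := Ext.covariant_sequence_exact₁ _ (asSeq_shortExact p h0) y
    ((subsingleton_H_Ga_above_dim X d hd (n + 1) (by omega)).elim _ _) (n₀ := n) rfl
  obtain ⟨w, rfl⟩ := (artinSchreier_surjective_and_finite p h0 f n).1 z
  show (w.comp (Ext.mk₀ (asSeq p h0).g) (add_zero n)).comp (asSeq_shortExact p h0).extClass rfl = 0
  rw [Ext.comp_assoc_of_second_deg_zero, (asSeq_shortExact p h0).comp_extClass, Ext.comp_zero]

theorem natCast_eq_zero_of_over {k : Type u} [Field k] [CharP k p] (f : X ⟶ Spec (CommRingCat.of k)) :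
    (p : Γ(X, ⊤)) = 0 := by
  rw [← map_natCast (Coh.toGlobal f), CharP.cast_eq_zero, map_zero]

end Groth.Agent.GaCoh3
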