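import Groth.Agent.Lib.GaCoh3.EtZarCompare
import Groth.Agent.Lib.EtStalk.ExtZero
import Groth.Agent.Lib.EtStalk.JCont
import Groth.Agent.Lib.RDerLES.Horseshoe

/-!
# Acyclicity for the restriction to the Zariski site
-/

universe u

set_option autoImplicit false
set_option linter.style.haveILetI false
set_option backward.isDefEq.respectTransparency false
set_option backward.isDefEq.respectTransparency.types false

open CategoryTheory CategoryTheory.Limits AlgebraicGeometry Opposite Abelian

namespace Groth.Agent.GaCoh3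

variable {X : Scheme.{u}}

theorem isZero_rightDerived_resZar [(EtZar.resZar X).Additive] :
    ∀ (n : ℕ) (F : EtCoh.Ab X), AcycAff F → IsZero (((EtZar.resZar X).rightDerived (n + 1)).obj F) := by
  let G := EtZar.resZar X
  haveI := ((EtZar.zarToEt X).sheafAdjunctionContinuous AddCommGrpCat.{u + 1}
    (Opens.grothendieckTopology X) X.smallEtaleTopology).isRightAdjoint
  haveI : PreservesFiniteLimits G := inferInstance
  obtain ⟨L⟩ := RDerLES.nonempty_derivedLES G
  have hstep : ∀ (n : ℕ) (F : EtCoh.Ab X), L.δ (injSeq F) (injSeq_shortExact F) n (n + 1) rfl = 0 →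
      IsZero ((G.rightDerived (n + 1)).obj F) := fun n F h => by
    have hI : IsZero ((G.rightDerived (n + 1)).obj (injSeq F).X₂) :=
      Functor.isZero_rightDerived_obj_injective_succ _ _ _
    exact (L.exact₁ (injSeq F) (injSeq_shortExact F) n (n + 1) rfl).isZero_X₂ h (hI.eq_of_tgt _ _)
  intro n
  induction n with
  | zero =>
    intro F hF
    refine hstep 0 F ?_
    have hg : Epi ((G.rightDerived 0).map (injSeq F).g) := by
      have := (shortExact_resZar (injSeq_shortExact F) hF).epi_g
      rw [← NatIso.naturality_2 G.rightDerivedZeroIsoSelf (injSeq F).g]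
      have : Epi (G.map (injSeq F).g) := ‹_›
      infer_instance
    exact (cancel_epi ((G.rightDerived 0).map (injSeq F).g)).1 (by rw [L.comp_δ, comp_zero])
  | succ n ih =>
    intro F hF
    refine hstep (n + 1) F ((ih _ (acycAff_injSeq₃ hF)).eq_of_src _ _)

/-- Cohomology vanishes in positive degrees on every affine étale scheme. -/
def AffAcyclic (G : EtCoh.Ab X) : Prop :=
  ∀ T : X.Etale, IsAffine T.left → ∀ i : ℕ, 1 ≤ i →
    Subsingleton (EtCoh.H T.left ((EtCoh.pull T.hom).obj G) i)

theorem subsingleton_H_of_iso {Y : Scheme.{u}} {A B : EtCoh.Ab Y} (e : A ≅ B) (i : ℕ)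
    [Subsingleton (EtCoh.H Y A i)] : Subsingleton (EtCoh.H Y B i) :=
  ⟨fun x y => by
    rw [← Ext.comp_mk₀_id x, ← Ext.comp_mk₀_id y, ← e.inv_hom_id, ← Ext.mk₀_comp_mk₀,
      ← Ext.comp_assoc_of_third_deg_zero, ← Ext.comp_assoc_of_third_deg_zero,
      Subsingleton.elim (α := EtCoh.H Y A i) (x.comp (Ext.mk₀ e.inv) (add_zero i))
        (y.comp (Ext.mk₀ e.inv) (add_zero i))]⟩

section

variable (T : X.Etale)

theorem shortExact_restrAlong {Y : Scheme.{u}} (j : Y ⟶ X) [AlgebraicGeometry.Etale j]
    {S : ShortComplex (EtCoh.Ab X)} (hS : S.ShortExact) : (S.map (EtShriek.restrAlong j)).ShortExact := by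
  haveI : (EtShriek.restrAlong j).IsRightAdjoint := (EtShriek.extZeroAdj j).isRightAdjoint
  haveI : (EtShriek.restrAlong j).IsLeftAdjoint := (EtStalk.restrPushAdj j).isLeftAdjoint
  haveI : PreservesFiniteLimits (EtShriek.restrAlong j) := inferInstance
  haveI : PreservesFiniteColimits (EtShriek.restrAlong j) := inferInstance
  exact hS.map_of_exact _

theorem shortExact_restr {S : ShortComplex (EtCoh.Ab X)} (hS : S.ShortExact) [AlgebraicGeometry.Etale T.hom] :
    (S.map (EtShriek.restrAlong T.hom)).ShortExact := shortExact_restrAlong T.hom hS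

theorem subsingleton_H_restr {G : EtCoh.Ab X} (hG : AffAcyclic G) [AlgebraicGeometry.Etale T.hom]
    (hT : IsAffine T.left) (i : ℕ) (hi : 1 ≤ i) :
    Subsingleton (EtCoh.H T.left ((EtShriek.restrAlong T.hom).obj G) i) :=
  @subsingleton_H_of_iso _ _ _ ((EtStalk.restrPullIso T.hom).app G).symm i (hG T hT i hi)

end

theorem surjective_of_affAcyclic {S : ShortComplex (EtCoh.Ab X)} (hS : S.ShortExact) (h1 : AffAcyclic S.X₁)
    (T : X.Etale) (hT : IsAffine T.left) : Function.Surjective (S.g.hom.app (op T)) := by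
  intro s
  haveI : AlgebraicGeometry.Etale T.hom := T.prop
  let S' := S.map (EtShriek.restrAlong T.hom)
  have hS' : S'.ShortExact := shortExact_restr T hS
  have htop := Groth.Agent.ExtShriek24.isTerminalTopObj T.left
  let e := Groth.Agent.ExtShriek24.compTopIso T
  let s' : S'.X₃.obj.obj (op (EtCoh.top T.left)) := S.X₃.obj.map e.hom.op s
  let y := (Sheaf.H.equiv₀ S'.X₃ htop).symm s'
  have hy : Ext.comp y hS'.extClass (zero_add 1) = 0 :=
    (subsingleton_H_restr T h1 hT 1 le_rfl).elim _ _
  obtain ⟨w, hw⟩ := Ext.covariant_sequence_exact₃ _ hS' y (zero_add 1) hy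
  refine ⟨S.X₂.obj.map e.inv.op (Sheaf.H.equiv₀ S'.X₂ htop w), ?_⟩
  rw [NatTrans.naturality_apply]
  have h2 : S'.g.hom.app (op (EtCoh.top T.left)) (Sheaf.H.equiv₀ S'.X₂ htop w) = s' := by
    rw [Sheaf.H.equiv₀_naturality htop S'.g w]
    show Sheaf.H.equiv₀ S'.X₃ htop (w.comp (Ext.mk₀ S'.g) (add_zero 0)) = s'
    rw [hw]
    exact AddEquiv.apply_symm_apply _ _
  refine (congrArg (S.X₃.obj.map e.inv.op) h2).trans ?_
  show S.X₃.obj.map e.inv.op (S.X₃.obj.map e.hom.op s) = s
  rw [← Functor.map_comp_apply, ← op_comp, e.inv_hom_id, op_id, CategoryTheory.Functor.map_id]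
  rfl

theorem affAcyclic_X₃ {S : ShortComplex (EtCoh.Ab X)} (hS : S.ShortExact) (h1 : AffAcyclic S.X₁)
    [Injective S.X₂] : AffAcyclic S.X₃ := by
  intro T hT i hi
  haveI : AlgebraicGeometry.Etale T.hom := T.prop
  have h3 : Subsingleton (EtCoh.H T.left ((EtShriek.restrAlong T.hom).obj S.X₃) i) := by
    have hS' := shortExact_restr T hS
    haveI : Injective (S.map (EtShriek.restrAlong T.hom)).X₂ := EtStalk.injective_restrAlong T.hom S.X₂
    obtain ⟨m, rfl⟩ : ∃ m, i = m + 1 := ⟨i - 1, by omega⟩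
    haveI := subsingleton_H_restr T h1 hT (m + 2) (by omega)
    refine ⟨fun a b => (postcomp_extClass_bijective hS' m).1 ?_⟩
    exact Subsingleton.elim (α := EtCoh.H T.left ((EtShriek.restrAlong T.hom).obj S.X₁) (m + 2)) _ _
  exact @subsingleton_H_of_iso _ _ _ ((EtStalk.restrPullIso T.hom).app S.X₃) i h3

theorem subsingleton_zarH_of_affAcyclic [IsAffine X] : ∀ (n : ℕ) (F : EtCoh.Ab X), AffAcyclic F →
    Subsingleton (EtZar.H ((EtZar.resZar X).obj F) (n + 1)) := by
  haveI := preservesFiniteLimits_zarPull X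
  haveI : (EtZar.resZar X).Additive := { map_add := rfl }
  have adj := (EtZar.zarToEt X).sheafAdjunctionContinuous AddCommGrpCat.{u + 1}
    (Opens.grothendieckTopology X) X.smallEtaleTopology
  have hT : ∀ F : EtCoh.Ab X, AffAcyclic F → ((injSeq F).map (EtZar.resZar X)).ShortExact := fun F hF => by
    haveI := adj.isRightAdjoint
    haveI := (injSeq_shortExact F).mono_f
    refine ShortComplex.ShortExact.mk' ((injSeq_shortExact F).exact.map_of_mono_of_preservesKernel _ inferInstance
      inferInstance) (inferInstanceAs (Mono ((EtZar.resZar X).map (injSeq F).f))) ?_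
    haveI : Sheaf.IsLocallySurjective ((EtZar.resZar X).map (injSeq F).g) := by
      refine ⟨fun {U} s x hx => ?_⟩
      obtain ⟨_, ⟨V, hV, rfl⟩, hxV, hle⟩ := X.isBasis_affineOpens.exists_subset_of_mem_open hx U.2
      refine ⟨V, homOfLE hle, ?_, hxV⟩
      exact surjective_of_affAcyclic (injSeq_shortExact F) hF ((EtZar.zarToEt X).obj V) hV _
    exact Sheaf.epi_of_isLocallySurjective ((EtZar.resZar X).map (injSeq F).g)
  intro n
  induction n with
  | zero =>
    intro F hF
    have hS := hT F hF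
    haveI : Injective ((injSeq F).map (EtZar.resZar X)).X₂ := Injective.injective_of_adjoint adj (Injective.under F)
    refine subsingleton_of_forall_eq 0 fun x => ?_
    obtain ⟨y, rfl⟩ := Ext.covariant_sequence_exact₁ _ hS x (Ext.eq_zero_of_injective _) (n₀ := 0) rfl
    have htop : IsTerminal (⊤ : X.Opens) := isTerminalTop
    have hV : IsAffine ((EtZar.zarToEt X).obj ⊤).left := IsAffine.of_isIso X.topIso.hom
    obtain ⟨t, ht⟩ := surjective_of_affAcyclic (injSeq_shortExact F) hF ((EtZar.zarToEt X).obj ⊤) hV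
      (Sheaf.H.equiv₀ ((injSeq F).map (EtZar.resZar X)).X₃ htop y)
    obtain rfl : Sheaf.H.map ((injSeq F).map (EtZar.resZar X)).g 0
        ((Sheaf.H.equiv₀ ((injSeq F).map (EtZar.resZar X)).X₂ htop).symm t) = y := by
      apply (Sheaf.H.equiv₀ ((injSeq F).map (EtZar.resZar X)).X₃ htop).injective
      rw [← Sheaf.H.equiv₀_naturality, AddEquiv.apply_symm_apply]
      exact ht
    exact (Ext.comp_assoc_of_second_deg_zero _ _ _ _).trans (by erw [hS.comp_extClass, Ext.comp_zero])
  | succ n ih =>
    intro F hF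
    have hS := hT F hF
    haveI : Injective ((injSeq F).map (EtZar.resZar X)).X₂ := Injective.injective_of_adjoint adj (Injective.under F)
    refine subsingleton_of_forall_eq 0 fun x => ?_
    obtain ⟨y, rfl⟩ := Ext.covariant_sequence_exact₁ _ hS x (Ext.eq_zero_of_injective _) (n₀ := n + 1) rfl
    have h3 : AffAcyclic (injSeq F).X₃ := affAcyclic_X₃ (injSeq_shortExact F) hF
    rw [show y = 0 from (ih _ h3).elim _ _, Ext.zero_comp]

end Groth.Agent.GaCoh3
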