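import Groth.Agent.Lib.FieldH25.GaAS
import Groth.Prelude.Def_W4c5etcohweilstudentAS

/-!
# The Artin–Schreier sequence on an arbitrary scheme of characteristic `p`
-/

universe u

set_option autoImplicit false
set_option linter.style.haveILetI false
set_option backward.isDefEq.respectTransparency.types false

open CategoryTheory CategoryTheory.Limits AlgebraicGeometry Opposite Abelian

namespace Groth.Agent.GaCoh3

/-- `X ^ p - X` splits over `ℤ/p`. -/
theorem prod_univ_X_sub_C_zmod (p : ℕ) [Fact p.Prime] :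
    ∏ c : ZMod p, (Polynomial.X - Polynomial.C c) = Polynomial.X ^ p - Polynomial.X := by
  have hp : 1 < p := (Fact.out : p.Prime).one_lt
  have hr : ((Polynomial.X ^ p - Polynomial.X : Polynomial (ZMod p))).roots = Finset.univ.val := by
    simpa [ZMod.card] using FiniteField.roots_X_pow_card_sub_X (ZMod p)
  have h := Polynomial.prod_multiset_X_sub_C_of_monic_of_roots_card_eq
    (Polynomial.monic_X_pow_sub (by rw [Polynomial.degree_X]; exact_mod_cast hp) :
      (Polynomial.X ^ p - Polynomial.X : Polynomial (ZMod p)).Monic)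
    (by rw [hr, FiniteField.X_pow_card_sub_X_natDegree_eq _ hp]; exact ZMod.card p)
  rw [hr] at h
  exact h

/-- In a local ring a root of `X ^ p - X` is an integer. -/
theorem exists_natCast_of_pow_eq_self {R : Type u} [CommRing R] [IsLocalRing R] (p : ℕ) [Fact p.Prime]
    (h0 : (p : R) = 0) (x : R) (hx : x ^ p = x) : ∃ c : ℕ, x = c := by
  haveI : CharP R p := (CharP.charP_iff_prime_eq_zero Fact.out).2 h0
  have hroot : ∀ y : R, ∏ c : ZMod p, (y - ZMod.castHom dvd_rfl R c) = y ^ p - y := fun y => by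
    have h := congrArg (fun f : Polynomial (ZMod p) => f.eval₂ (ZMod.castHom dvd_rfl R) y)
      (prod_univ_X_sub_C_zmod p)
    simpa [Polynomial.eval₂_finsetProd] using h
  obtain ⟨c, hc⟩ : ∃ c : ZMod p, x - ZMod.castHom dvd_rfl R c ∈ IsLocalRing.maximalIdeal R := by
    have h := hroot x
    rw [hx, sub_self] at h
    obtain ⟨c, -, hc⟩ := (IsLocalRing.maximalIdeal.isMaximal R).isPrime.prod_mem_iff.1 (h ▸ zero_mem _)
    exact ⟨c, hc⟩
  let y := x - ZMod.castHom dvd_rfl R c
  have hy : y ^ p = y := by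
    rw [sub_pow_char, hx, ← map_pow, ZMod.pow_card]
  have hu : IsUnit (y ^ (p - 1) - 1) := by
    by_contra hn
    have h1 : y ^ (p - 1) - 1 ∈ IsLocalRing.maximalIdeal R := hn
    have h2 : y ^ (p - 1) ∈ IsLocalRing.maximalIdeal R :=
      Ideal.pow_mem_of_mem _ hc _ (Nat.sub_pos_of_lt (Fact.out : p.Prime).one_lt)
    exact (IsLocalRing.maximalIdeal.isMaximal R).ne_top
      ((Ideal.eq_top_iff_one _).2 (by simpa using sub_mem h2 h1))
  have hy0 : y = 0 := by
    refine (hu.mul_left_eq_zero (a := y)).1 ?_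
    rw [mul_sub, mul_one, ← pow_succ', Nat.sub_add_cancel (Fact.out : p.Prime).one_le, hy, sub_self]
  refine ⟨c.val, ?_⟩
  rw [← map_natCast (ZMod.castHom dvd_rfl R), ZMod.natCast_zmod_val]
  exact sub_eq_zero.1 hy0

variable {X : Scheme.{u}} (p : ℕ) [Fact p.Prime] (h0 : (p : Γ(X, ⊤)) = 0)

/-- Integers mod `p` as functions on an étale scheme. -/
noncomputable def castΓ (U : X.Etale) : ZMod p →+ Γ(U.left, ⊤) :=
  ZMod.lift p ⟨Int.castAddHom _, by
    show ((p : ℤ) : Γ(U.left, ⊤)) = 0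
    rw [Int.cast_natCast]
    exact W4c5etcohweilstudent.natCast_eq_zero_etale p h0 U⟩

theorem castΓ_eq (U : X.Etale) (c : ZMod p) : castΓ p h0 U c = (c.val : Γ(U.left, ⊤)) := by
  conv_lhs => rw [← ZMod.natCast_zmod_val c, ← Int.cast_natCast (R := ZMod p)]
  rw [castΓ, ZMod.lift_coe]
  simp

/-- The presheaf map of constants. -/
noncomputable def constPre : (Functor.const X.Etaleᵒᵖ).obj (AddCommGrpCat.of (ULift.{u + 1} (ZMod p))) ⟶
    (EtCoh.Ga X).obj where
  app U := AddCommGrpCat.ofHom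
    ((AddEquiv.ulift.{u, u + 1}.symm.toAddMonoidHom).comp
      ((castΓ p h0 U.unop).comp AddEquiv.ulift.{0, u + 1}.toAddMonoidHom))
  naturality U V g := by
    ext ⟨c⟩
    refine ULift.ext _ _ ?_
    show castΓ p h0 V.unop c = g.unop.left.appTop (castΓ p h0 U.unop c)
    rw [castΓ_eq, castΓ_eq, map_natCast]

/-- The inclusion of the constant sheaf into `G_a`. -/
noncomputable def asι : EtCoh.const X (ZMod p) ⟶ EtCoh.Ga X :=
  ⟨sheafifyLift X.smallEtaleTopology (constPre p h0) (EtCoh.Ga X).property⟩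

/-- A constant as a section. -/
noncomputable def cst (U : X.Etale) (c : ZMod p) : (EtCoh.const X (ZMod p)).obj.obj (op U) :=
  (toSheafify X.smallEtaleTopology
    ((Functor.const X.Etaleᵒᵖ).obj (AddCommGrpCat.of (ULift.{u + 1} (ZMod p))))).app (op U) (ULift.up c)

theorem asι_cst (U : X.Etale) (c : ZMod p) :
    (asι p h0).hom.app (op U) (cst p U c) = ULift.up (castΓ p h0 U c) :=
  ConcreteCategory.congr_hom (NatTrans.congr_app (toSheafify_sheafifyLift X.smallEtaleTopology (constPre p h0)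
    (EtCoh.Ga X).property) (op U)) (ULift.up c)

theorem exists_cst {U : X.Etale} (s : (EtCoh.const X (ZMod p)).obj.obj (op U)) (z : ↥U.left) :
    ∃ (V : X.Etale) (g : V ⟶ U) (v : ↥V.left) (c : ZMod p),
      g.left v = z ∧ (EtCoh.const X (ZMod p)).obj.map g.op s = cst p V c := by
  have h := Presheaf.imageSieve_mem X.smallEtaleTopology
    (toSheafify X.smallEtaleTopology ((Functor.const X.Etaleᵒᵖ).obj (AddCommGrpCat.of (ULift.{u + 1} (ZMod p)))))
    (U := op U) s
  rw [EtSite.mem_et_iff] at h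
  obtain ⟨V, g, v, ⟨t, ht⟩, hv⟩ := h z
  exact ⟨V, g, v, t.down, hv, ht.symm⟩

theorem asι_comp : asι p h0 ≫ W4c5etcohweilstudent.artinSchreierEndo X p Fact.out h0 = 0 := by
  refine Sheaf.hom_ext (sheafify_hom_ext _ _ _ (EtCoh.Ga X).property ?_)
  refine NatTrans.ext (funext fun U => AddCommGrpCat.ext fun ⟨c⟩ => ?_)
  show (W4c5etcohweilstudent.artinSchreierEndo X p Fact.out h0).hom.app U
    ((asι p h0).hom.app U (cst p U.unop c)) = _
  rw [asι_cst]
  refine ULift.ext _ _ ?_
  show castΓ p h0 U.unop c ^ p - castΓ p h0 U.unop c = 0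
  have hz := W4c5etcohweilstudent.natCast_eq_zero_etale p h0 U.unop
  rcases subsingleton_or_nontrivial Γ(U.unop.left, ⊤) with hR | hR
  · exact Subsingleton.elim _ _
  · haveI : CharP Γ(U.unop.left, ⊤) p := (CharP.charP_iff_prime_eq_zero Fact.out).2 hz
    rw [castΓ_eq, ← Nat.cast_pow, sub_eq_zero, CharP.natCast_eq_natCast Γ(U.unop.left, ⊤) p]
    exact (ZMod.natCast_eq_natCast_iff _ _ _).1 (by rw [Nat.cast_pow, ZMod.pow_card])

theorem mono_asι : Mono (asι p h0) := by
  rw [EtStalk.mono_iff_app_injective]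
  rintro ⟨U⟩
  refine (injective_iff_map_eq_zero ((asι p h0).hom.app (op U)).hom).2 fun s hs => ?_
  refine EtStalk.eq_of_agree _ fun z => ?_
  obtain ⟨V, g, v, c, hv, hc⟩ := exists_cst p s z
  refine ⟨V, g, ⟨v, hv⟩, ?_⟩
  rw [hc, map_zero]
  have h1 : (asι p h0).hom.app (op V) (cst p V c) = 0 := by
    rw [← hc, NatTrans.naturality_apply]
    exact (congrArg _ hs).trans (map_zero _)
  rw [asι_cst] at h1
  have h2 : (c.val : Γ(V.left, ⊤)) = 0 := (castΓ_eq p h0 V c).symm.trans (congrArg ULift.down h1)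
  haveI : Nontrivial Γ(V.left, ⊤) := @Scheme.component_nontrivial V.left ⊤ ⟨⟨v, trivial⟩⟩
  haveI : CharP Γ(V.left, ⊤) p := (CharP.charP_iff_prime_eq_zero Fact.out).2
    (W4c5etcohweilstudent.natCast_eq_zero_etale p h0 V)
  rw [CharP.cast_eq_zero_iff Γ(V.left, ⊤) p, ← ZMod.natCast_eq_zero_iff, ZMod.natCast_zmod_val] at h2
  subst h2
  show (toSheafify X.smallEtaleTopology
    ((Functor.const X.Etaleᵒᵖ).obj (AddCommGrpCat.of (ULift.{u + 1} (ZMod p))))).app (op V) 0 = 0
  exact map_zero _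

theorem exists_cst_eq {U : X.Etale} (x : (EtCoh.Ga X).obj.obj (op U))
    (hx : (W4c5etcohweilstudent.artinSchreierEndo X p Fact.out h0).hom.app (op U) x = 0) (z : ↥U.left) :
    ∃ (V : X.Etale) (g : V ⟶ U) (v : ↥V.left) (c : ZMod p),
      g.left v = z ∧ (asι p h0).hom.app (op V) (cst p V c) = (EtCoh.Ga X).obj.map g.op x := by
  let x' : Γ(U.left, ⊤) := x.down
  have hx' : x' ^ p = x' := sub_eq_zero.1 (congrArg ULift.down hx)
  let r : Γ(U.left, ⊤) →+* U.left.presheaf.stalk z := (U.left.presheaf.germ ⊤ z trivial).hom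
  obtain ⟨c, hc⟩ := exists_natCast_of_pow_eq_self p
    (by rw [← map_natCast r, W4c5etcohweilstudent.natCast_eq_zero_etale p h0 U, map_zero]) (r x')
    (by rw [← map_pow, hx'])
  obtain ⟨W₀, hzW, i, j, hij⟩ := U.left.presheaf.germ_eq (U := ⊤) (V := ⊤) z trivial trivial x' (c : Γ(U.left, ⊤))
    (hc.trans (map_natCast r c).symm)
  let W : U.left.Opens := W₀
  refine ⟨EtSite.sub U W, EtSite.subHom U W, ⟨z, hzW⟩, (c : ZMod p), rfl, ?_⟩
  rw [asι_cst]
  refine ULift.ext _ _ ?_
  show castΓ p h0 (EtSite.sub U W) (c : ZMod p) = W.ι.appTop x'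
  rw [castΓ_eq, ZMod.val_natCast]
  have e : W.ι.appTop x' = W.ι.appTop (c : Γ(U.left, ⊤)) := by
    have key := congrArg (U.left.presheaf.map (homOfLE W.ι_image_top.le).op) hij
    simp only [← CategoryTheory.ConcreteCategory.comp_apply, ← Functor.map_comp, ← op_comp] at key
    rw [Scheme.Opens.ι_appTop]
    exact key
  rw [e, map_natCast]
  have hz := W4c5etcohweilstudent.natCast_eq_zero_etale p h0 (EtSite.sub U W)
  have key : ∀ (R : Type u) [CommRing R], (p : R) = 0 → ((c % p : ℕ) : R) = (c : R) := fun R _ hR => by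
    conv_rhs => rw [← Nat.mod_add_div c p, Nat.cast_add, Nat.cast_mul, hR, zero_mul, add_zero]
  exact key _ hz

/-- The Artin–Schreier sequence. -/
noncomputable abbrev asSeq : ShortComplex (EtCoh.Ab X) :=
  ShortComplex.mk (asι p h0) (W4c5etcohweilstudent.artinSchreierEndo X p Fact.out h0) (asι_comp p h0)

theorem asSeq_shortExact : (asSeq p h0).ShortExact := by
  let φ := W4c5etcohweilstudent.artinSchreierEndo X p Fact.out h0
  haveI : Epi φ := FieldH25.epi_artinSchreier p Fact.out h0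
  haveI := mono_asι p h0
  let κ : EtCoh.const X (ZMod p) ⟶ kernel φ := kernel.lift φ (asι p h0) (asι_comp p h0)
  haveI : Mono κ := mono_of_mono_fac (h := asι p h0) (kernel.lift_ι φ _ (asι_comp p h0))
  haveI : Epi κ := by
    rw [← Sheaf.isLocallySurjective_iff_epi']
    refine ⟨fun {U} σ => ?_⟩
    rw [EtSite.mem_et_iff]
    intro z
    have h1 : φ.hom.app (op U) ((kernel.ι φ).hom.app (op U) σ) = 0 :=
      ConcreteCategory.congr_hom (congrArg (fun t => t.hom.app (op U)) (kernel.condition φ)) σ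
    obtain ⟨V, g, v, c, hv, hc⟩ := exists_cst_eq p h0 _ h1 z
    refine ⟨V, g, v, ⟨cst p V c, (EtStalk.mono_iff_app_injective (kernel.ι φ)).1 inferInstance _ ?_⟩, hv⟩
    refine Eq.trans ?_ (NatTrans.naturality_apply (kernel.ι φ).hom g.op σ).symm
    refine Eq.trans ?_ hc
    exact ConcreteCategory.congr_hom (congrArg (fun t => t.hom.app (op V)) (kernel.lift_ι φ _ (asι_comp p h0))) _
  haveI := isIso_of_mono_of_epi κ
  have hker : IsLimit (KernelFork.ofι (asι p h0) (asι_comp p h0)) :=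
    IsLimit.ofIsoLimit (kernelIsKernel φ) (Fork.ext (asIso κ).symm (by
      show inv κ ≫ asι p h0 = _
      rw [IsIso.inv_comp_eq]
      exact (kernel.lift_ι φ _ _).symm))
  exact { exact := ShortComplex.exact_of_f_is_kernel _ hker, mono_f := mono_asι p h0, epi_g := ‹Epi φ› }

include h0 in
theorem subsingleton_H_zmod {q : ℕ} (h1 : Subsingleton (EtCoh.H X (EtCoh.Ga X) (q + 1)))
    (h2 : Subsingleton (EtCoh.H X (EtCoh.Ga X) q)) :
    Subsingleton (EtCoh.H X (EtCoh.const X (ZMod p)) (q + 1)) := by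
  refine subsingleton_of_forall_eq 0 fun y => ?_
  obtain ⟨z, rfl⟩ := Ext.covariant_sequence_exact₁ _ (asSeq_shortExact p h0) y (h1.elim _ _) (n₀ := q) rfl
  rw [show z = 0 from h2.elim _ _]
  simp

end Groth.Agent.GaCoh3
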