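import Groth.Agent.Lib.GaCoh3.ASGlobal

/-!
# The order of mod `p` étale cohomology of proper schemes in characteristic `p`
-/

universe u

set_option autoImplicit false
set_option linter.style.haveILetI false
set_option backward.isDefEq.respectTransparency false
set_option backward.isDefEq.respectTransparency.types false

open CategoryTheory CategoryTheory.Limits AlgebraicGeometry Opposite Abelian

namespace Groth.Agent.GaCoh3

section

open Groth.Agent.SigmaLinLib

variable {k : Type u} [Field k] [IsSepClosed k] (p : ℕ) [Fact p.Prime] [CharP k p]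
  {V : Type u} [AddCommGroup V] [Module k V] [FiniteDimensional k V]
  (F : V →+ V) (hF : ∀ (c : k) (v : V), F (c • v) = c ^ p • F v)

include hF in
theorem frob_fixed_card : Nat.card {v : V | F v = v} ≤ p ^ Module.finrank k V := by
  let T := ofQLinear (r := 1) (p := p) F (fun c v => by rw [pow_one]; exact hF c v)
  obtain ⟨B, hB⟩ := exists_basis_fixed (Tss T) (span_range_Tss T)
    (cond2_frobenius k p 1 one_pos) (cond3_frobenius k p 1 one_pos)
  obtain ⟨N, -, hinf⟩ := W_stab T
  let b : _ → V := fun i => (B i : V)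
  have hli : LinearIndependent k b :=
    B.linearIndependent.map' (⨅ n, W T n).subtype (Submodule.ker_subtype _)
  have hb : ∀ i, F (b i) = b i := fun i => congrArg Subtype.val (hB i)
  obtain ⟨hfin, hcard⟩ := Groth.Agent.SigmaFix.finite_roots p k
  haveI := hfin.to_subtype
  let ψ := fun c : _ → {c : k | c ^ p = c} => ∑ i, (c i : k) • b i
  have hsub : {v : V | F v = v} ⊆ Set.range ψ := fun v hv => by
    have hv' : v ∈ ⨅ n, W T n := by
      rw [hinf, show v = (⇑T)^[N] v from (Function.iterate_fixed (f := ⇑T) hv N).symm]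
      exact Submodule.subset_span ⟨v, rfl⟩
    obtain ⟨c, hc⟩ : ∃ c : _ → k, ∑ i, c i • b i = v := ⟨fun i => B.repr ⟨v, hv'⟩ i, by
      have h := congrArg Subtype.val (B.sum_repr ⟨v, hv'⟩)
      rw [AddSubmonoidClass.coe_finsetSum] at h
      exact h⟩
    have h1 : F (∑ i, c i • b i) = ∑ i, c i • b i := by rw [hc]; exact hv
    rw [map_sum] at h1
    simp only [hF, hb] at h1
    have h2 : ∀ i, c i ^ p = c i := fun i => sub_eq_zero.mp
      (Fintype.linearIndependent_iff.mp hli (fun i => c i ^ p - c i)
        (by simp [sub_smul, Finset.sum_sub_distrib, h1]) i)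
    exact ⟨fun i => ⟨c i, h2 i⟩, hc⟩
  refine (Nat.card_mono (Set.finite_range ψ) hsub).trans ((Finite.card_range_le ψ).trans ?_)
  rw [Nat.card_fun, Nat.card_fin]
  exact (Nat.pow_le_pow_left hcard _).trans
    (Nat.pow_le_pow_right (Fact.out : p.Prime).pos (Submodule.finrank_le _))

end

theorem card_H_zmod_le (k : Type u) [Field k] [IsSepClosed k] (p : ℕ) [Fact p.Prime] [CharP k p]
    (X : Scheme.{u}) [X.Over (Spec (CommRingCat.of k))] [IsProper (X ↘ Spec (CommRingCat.of k))] (q : ℕ) :
    Finite (EtCoh.H X (EtCoh.const X (ZMod p)) q) ∧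
      Nat.card (EtCoh.H X (EtCoh.const X (ZMod p)) q) ≤
        p ^ Module.finrank k (Coh.HH X (Coh.structureModule X) q) := by
  let f := X ↘ Spec (CommRingCat.of k)
  have h0 := natCast_eq_zero_of_over p f
  refine ⟨finite_H_zmod p h0 f q, ?_⟩
  haveI : IsLocallyNoetherian X := LocallyOfFiniteType.isLocallyNoetherian f
  haveI : Module.Finite k (Coh.HH X (Coh.structureModule X) q) :=
    Groth.Agent.S0002.result k X _ (M1.isCoh_structureModule X) q
  let F : Coh.HH X (Coh.structureModule X) q →+ Coh.HH X (Coh.structureModule X) q :=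
    Sheaf.H.map (frobAb p h0) q
  have hF : ∀ (c : k) x, F (c • x) = c ^ p • F x := fun c x => by
    show Sheaf.H.map (frobAb p h0) q (Coh.toGlobal f c • x) =
      Coh.toGlobal f (c ^ p) • Sheaf.H.map (frobAb p h0) q x
    rw [H_map_frobAb_smul, map_pow]
  obtain ⟨e, he⟩ := exists_H_Ga_equiv X q
  have hc := he _ _ (resZar_artinSchreier p h0)
  let g : EtCoh.H X (EtCoh.const X (ZMod p)) q →+ EtCoh.H X (EtCoh.Ga X) q := Sheaf.H.map (asι p h0) q
  have hinj : Function.Injective g := by
    refine (injective_iff_map_eq_zero g).2 fun y hy => ?_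
    cases q with
    | zero =>
      haveI := mono_asι p h0
      obtain ⟨y, rfl⟩ := (Ext.mk₀_bijective _ _).2 y
      have h : Ext.mk₀ (y ≫ asι p h0) = 0 := (Ext.mk₀_comp_mk₀ y (asι p h0)).symm.trans hy
      rw [Ext.mk₀_eq_zero_iff] at h
      rw [Ext.mk₀_eq_zero_iff, ← cancel_mono (asι p h0), h, zero_comp]
    | succ n =>
      obtain ⟨z, rfl⟩ := Ext.covariant_sequence_exact₁ _ (asSeq_shortExact p h0) y hy (n₀ := n) rfl
      obtain ⟨w, rfl⟩ := (artinSchreier_surjective_and_finite p h0 f n).1 z
      show (w.comp (Ext.mk₀ (asSeq p h0).g) (add_zero n)).comp (asSeq_shortExact p h0).extClass rfl = 0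
      rw [Ext.comp_assoc_of_second_deg_zero, (asSeq_shortExact p h0).comp_extClass, Ext.comp_zero]
  have hfix : ∀ y, F (e (g y)) = e (g y) := fun y => by
    refine sub_eq_zero.1 ((H_map_asAb p h0 q (e (g y))).symm.trans ((hc (g y)).symm.trans ?_))
    have : Sheaf.H.map (W4c5etcohweilstudent.artinSchreierEndo X p Fact.out h0) q (g y) = 0 := by
      show Sheaf.H.map _ q (Sheaf.H.map (asι p h0) q y) = 0
      rw [← Sheaf.H.map_comp_apply, asι_comp]
      show ((Sheaf.functorH _ q).map (0 : EtCoh.const X (ZMod p) ⟶ EtCoh.Ga X)).hom y = 0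
      rw [Functor.map_zero]
      rfl
    rw [this, map_zero]
  haveI : Finite {v | F v = v} := (frob_fixed_finite p F hF).to_subtype
  exact (Nat.card_le_card_of_injective (fun y => (⟨e (g y), hfix y⟩ : {v | F v = v})) fun a b h =>
    hinj (e.injective (congrArg Subtype.val h))).trans (frob_fixed_card p F hF)

end Groth.Agent.GaCoh3
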