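import Groth.Agent.Lib.GaCoh3.GaAcyc
import Groth.Agent.Lib.EtAssoc12.Sheaf
import Groth.Agent.Lib.QcohDesc12.BC

/-!
# The sheaf associated to a quasi-coherent module has exact Čech complexes on affine objects
-/

universe u

set_option autoImplicit false
set_option linter.style.haveILetI false
set_option maxHeartbeats 800000
set_option backward.isDefEq.respectTransparency false
set_option backward.isDefEq.respectTransparency.types false

open CategoryTheory CategoryTheory.Limits AlgebraicGeometry Opposite TensorProduct Groth.Agent.Cech24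

namespace Groth.Agent.GaCoh3

variable {X : Scheme.{u}} (F : X.Modules)

/-- Sections of the pullback over an étale scheme. -/
abbrev Ms (U : X.Etale) : Type u := Γ((Scheme.Modules.pullback U.hom).obj F, ⊤)

/-- Restriction of sections. -/
noncomputable def rm {U U' : X.Etale} (g : U' ⟶ U) : Ms F U →+ Ms F U' := (EtAssoc.resMap F g).hom

theorem appLE_top {A B : Scheme.{u}} (a : A ⟶ B) (e : (⊤ : A.Opens) ≤ a ⁻¹ᵁ ⊤) :
    a.appLE ⊤ ⊤ e = a.appTop := a.appLE_eq_app

theorem rm_smul {U U' : X.Etale} (g : U' ⟶ U) (c : Γo U) (x : Ms F U) :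
    rm F g (c • x) = γ g c • rm F g x := by
  show (show Ms F U' from EtAssoc.resMap F g (c • x)) = γ g c • (show Ms F U' from EtAssoc.resMap F g x)
  rw [EtAssoc12.resMap_eq, EtAssoc12.resMap_eq, ModLimH13.trans_smul, appLE_top]

variable [Coh.IsQCoh F]

theorem rm_comp {U U' U'' : X.Etale} (g : U' ⟶ U) (g' : U'' ⟶ U') (x : Ms F U) :
    rm F (g' ≫ g) x = rm F g' (rm F g x) := EtAssoc12.resMap_comp F g g' x

theorem rm_id (U : X.Etale) (x : Ms F U) : rm F (𝟙 U) x = x := EtAssoc12.resMap_id F U x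

omit [Coh.IsQCoh F] in
theorem rm_congr {U U' : X.Etale} {g g' : U' ⟶ U} (h : g = g') (x : Ms F U) : rm F g x = rm F g' x := by rw [h]

theorem exists_contraction_mod {E E₀ : X.Etale} (h : E₀ ⟶ E) (n : ℕ)
    (z : Ms F (pullback h (pr1 h (n + 1)).hom))
    (hz : ∑ i : Fin (n + 3), (-1 : ℤ) ^ (i : ℕ) • rm F (G h (n + 1) i) z = 0) :
    ∑ i : Fin (n + 2), (-1 : ℤ) ^ (i : ℕ) • rm F (G h n i) (rm F (ψ h n) z) = z := by
  have e := congrArg (rm F (ψ h (n + 1))) hz
  rw [map_zero, map_sum, Fin.sum_univ_succ] at e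
  simp only [map_zsmul, map_neg, ← rm_comp, ψ_G_zero, ψ_G_succ, rm_id, Fin.val_zero, pow_zero, one_smul,
    Fin.val_succ, pow_succ, mul_neg, mul_one, neg_smul, Finset.sum_neg_distrib] at e
  simp only [← rm_comp]
  exact (neg_add_eq_zero.1 ((add_comm _ _).trans e))

theorem acycAff_of_isAssoc {Gs : EtCoh.Ab X} (hG : EtAssoc.IsAssoc F Gs) : AcycAff Gs := by
  obtain ⟨e, he⟩ := hG
  intro E E₀ _ _ h hs n
  have haff := isAffine_pr1 h
  let M : ℕ → Type u := fun m => Ms F (pr1 h m).left
  let P : ℕ → Type u := fun m => Ms F (pullback h (pr1 h m).hom)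
  letI : Algebra (Γo E) (Γo E₀) := (γ h).toAlgebra
  letI : ∀ m, Module (Γo E) (M m) := fun m => Module.compHom (M m) (γ (pr1 h m).hom)
  have : Module.FaithfullyFlat (Γo E) (Γo E₀) := faithfullyFlat_appTop h hs
  let sq : ∀ m, Γo E₀ ⊗[Γo E] M m →+ P m := fun m => TensorProduct.liftAddHom
    (AddMonoidHom.mk' (fun c => AddMonoidHom.mk'
        (fun y => γ (pullback.fst h (pr1 h m).hom) c • rm F (pullback.snd h (pr1 h m).hom) y)
        (fun y y' => by rw [map_add, smul_add]))
      (fun c c' => by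
        ext y
        show γ (pullback.fst h (pr1 h m).hom) (c + c') • rm F (pullback.snd h (pr1 h m).hom) y =
          γ (pullback.fst h (pr1 h m).hom) c • rm F (pullback.snd h (pr1 h m).hom) y +
            γ (pullback.fst h (pr1 h m).hom) c' • rm F (pullback.snd h (pr1 h m).hom) y
        rw [map_add, add_smul]))
    (fun r c y => by
      show γ (pullback.fst h (pr1 h m).hom) (γ h r * c) • rm F (pullback.snd h (pr1 h m).hom) y =
        γ (pullback.fst h (pr1 h m).hom) c • rm F (pullback.snd h (pr1 h m).hom) (γ (pr1 h m).hom r • y)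
      rw [rm_smul, map_mul, smul_smul, mul_comm (γ (pullback.fst h (pr1 h m).hom) c), ← γ_comp, ← γ_comp,
        γ_congr pullback.condition])
  have hsq_tmul : ∀ m c y, sq m (c ⊗ₜ y) =
      γ (pullback.fst h (pr1 h m).hom) c • rm F (pullback.snd h (pr1 h m).hom) y := fun m c y =>
    TensorProduct.liftAddHom_tmul _ _ _ _
  have hsq : ∀ m, Function.Bijective (sq m) := fun m => by
    have := haff m
    let A := (pr1 h m).left
    let k := (pr1 h m).hom
    let N := (Scheme.Modules.pullback A.hom).obj F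
    haveI : Coh.IsQCoh N := M1.isQCoh_pullback A.hom inferInstance
    have hfst : (⊤ : (pullback h k).left.Opens) ≤ (pullback.fst h k).left ⁻¹ᵁ ⊤ := fun _ _ => trivial
    have hsnd : (⊤ : (pullback h k).left.Opens) ≤ (pullback.snd h k).left ⁻¹ᵁ ⊤ := fun _ _ => trivial
    have eh : (⊤ : E₀.left.Opens) ≤ h.left ⁻¹ᵁ ⊤ := fun _ _ => trivial
    have ek : (⊤ : A.left.Opens) ≤ k.left ⁻¹ᵁ ⊤ := fun _ _ => trivial
    have hB : ∀ r : Γ(E.left, ⊤), algebraMap (Γo E) (Γo E₀) r = h.left.appLE ⊤ ⊤ eh r := fun r => by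
      rw [appLE_top]; rfl
    have hF : ∀ (r : Γ(E.left, ⊤)) (s : Γ(N, ⊤)), r • (s : M m) = k.left.appLE ⊤ ⊤ ek r • s := fun r s => by
      rw [appLE_top]; rfl
    have hbij := QcohDesc12.bcSec_bijective eh ek hfst hsnd (isPullback_left h k).w N hB hF
      (isPullback_left h k) (isAffineOpen_top E.left) (isAffineOpen_top E₀.left) (isAffineOpen_top A.left)
      (by simp)
    let c' := ((ModLimH13.cmp (pullback.snd h k).left A.hom (Over.w (pullback.snd h k).hom)).hom.app F).app ⊤
    have hc' : Function.Bijective c' := (ConcreteCategory.isIso_iff_bijective c').1 inferInstance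
    have : ⇑(sq m) = c' ∘ ⇑(QcohDesc12.bcSec eh ek hfst hsnd (isPullback_left h k).w N hB hF) := by
      funext z
      induction z using TensorProduct.induction_on with
      | zero => simp
      | tmul c y =>
        refine Eq.trans ?_ (congrArg c' (QcohDesc12.bcSec_tmul eh ek hfst hsnd (isPullback_left h k).w N hB hF c y)).symm
        refine Eq.trans ?_ (Scheme.Modules.Hom.app_smul _ _ _).symm
        rw [hsq_tmul, appLE_top]
        refine congrArg (_ • ·) ?_
        exact EtAssoc12.resMap_eq F (pullback.snd h k) y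
      | add x y hx hy => simp only [Function.comp_apply, map_add] at hx hy ⊢; rw [hx, hy]
    rw [this]
    exact hc'.comp hbij
  let fa : ∀ m, Fin (m + 2) → (M m →ₗ[Γo E] M (m + 1)) := fun m i =>
    { rm F (face1 h m i) with
      map_smul' := fun a x => by
        show rm F (face1 h m i) (γ (pr1 h m).hom a • x) = γ (pr1 h (m + 1)).hom a • rm F (face1 h m i) x
        rw [rm_smul, ← γ_comp, γ_congr (face1_comp h m i)] }
  let D : ∀ m, M m →ₗ[Γo E] M (m + 1) := fun m => ∑ i : Fin (m + 2), (-1 : ℤ) ^ (i : ℕ) • fa m i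
  have hDapp : ∀ m (x : M m), D m x = ∑ i : Fin (m + 2), (-1 : ℤ) ^ (i : ℕ) • rm F (face1 h m i) x := fun m x => by
    rw [LinearMap.sum_apply]
    rfl
  let up : ∀ m, M m → Gs.obj.obj (op (pr1 h m).left) := fun m x => (e _).symm (ULift.up x)
  have hup : ∀ m x, (e _ (up m x)).down = x := fun m x => congrArg ULift.down ((e _).apply_symm_apply _)
  have hd : ∀ (m : ℕ) (x : M m) (a : Fin (m + 2) → PUnit.{u + 2}),
      dCochain (one h) Gs.obj (fun _ => up m x) a = up (m + 1) (D m x) := fun m x a => by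
    let φ : Gs.obj.obj (op (pr1 h (m + 1)).left) ≃+ M (m + 1) := (e _).trans AddEquiv.ulift
    refine φ.injective ?_
    show φ (dCochain (one h) Gs.obj (fun _ => up m x) fun _ => PUnit.unit) = (e _ (up (m + 1) (D m x))).down
    rw [hup, hDapp, dCochain, map_sum]
    refine Finset.sum_congr rfl fun i _ => ?_
    rw [map_zsmul]
    refine congrArg (_ • ·) ?_
    refine (he _ _ (face1 h m i) (up m x)).trans ?_
    rw [hup]
    rfl
  have hDD : ∀ m (x : M m), D (m + 1) (D m x) = 0 := fun m x => by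
    have h0 := congrFun (dCochain_dCochain (one h) Gs.obj (n := m) fun _ => up m x) fun _ => PUnit.unit
    rw [show dCochain (one h) Gs.obj (fun _ : Fin (m + 1) → PUnit.{u + 2} => up m x) =
      fun _ => up (m + 1) (D m x) from funext (hd m x), hd] at h0
    have h1 := congrArg (fun t => (e _ t).down) h0
    simp only [hup, Pi.zero_apply, map_zero] at h1
    exact h1
  have hnat : ∀ m (z : Γo E₀ ⊗[Γo E] M m), sq (m + 1) ((D m).lTensor (Γo E₀) z) =
      ∑ i : Fin (m + 2), (-1 : ℤ) ^ (i : ℕ) • rm F (G h m i) (sq m z) := fun m z => by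
    induction z using TensorProduct.induction_on with
    | zero => simp
    | tmul c x =>
      rw [LinearMap.lTensor_tmul, hDapp, TensorProduct.tmul_sum, map_sum]
      refine Finset.sum_congr rfl fun i _ => ?_
      rw [TensorProduct.tmul_smul, map_zsmul]
      refine congrArg (_ • ·) ?_
      rw [hsq_tmul, hsq_tmul, rm_smul, ← γ_comp, ← rm_comp, ← rm_comp, pbMap_fst, pbMap_snd]
    | add x y hx hy => simp only [map_add, hx, hy, smul_add, Finset.sum_add_distrib]
  have hex : Function.Exact (D n) (D (n + 1)) := by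
    refine Module.FaithfullyFlat.lTensor_reflects_exact (Γo E) (Γo E₀) _ _ fun z => ⟨fun hz => ?_, ?_⟩
    · have := exists_contraction_mod F h n (sq (n + 1) z) (by rw [← hnat, hz, map_zero])
      obtain ⟨w, hw⟩ := (hsq n).2 (rm F (ψ h n) (sq (n + 1) z))
      refine ⟨w, (hsq (n + 1)).1 ?_⟩
      rw [hnat, hw, this]
    · rintro ⟨w, rfl⟩
      rw [← LinearMap.lTensor_comp_apply, show D (n + 1) ∘ₗ D n = 0 from LinearMap.ext (hDD n),
        LinearMap.lTensor_zero, LinearMap.zero_apply]
  refine isZero_of_exists _ _ fun c hc => ?_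
  let x : M (n + 1) := (e _ (c fun _ => PUnit.unit)).down
  have hcx : c = fun _ => up (n + 1) x := funext fun a =>
    ((e _).symm_apply_apply (c fun _ => PUnit.unit)).symm
  obtain ⟨b, hb⟩ := (hex x).1 (by
    have h0 := congrFun hc fun _ => PUnit.unit
    rw [hcx, hd] at h0
    have h1 := congrArg (fun t => (e _ t).down) h0
    simp only [hup, Pi.zero_apply, map_zero] at h1
    exact h1)
  exact ⟨fun _ => up n b, hcx ▸ funext fun a => (hd n b a).trans (congrArg (up (n + 1)) hb)⟩

end Groth.Agent.GaCoh3
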