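import Groth.Agent.Lib.GaCoh3.EtZarCompare
import Groth.Agent.Lib.GaCoh3.AssocAcyc

/-!
# Étale cohomology of the sheaf associated to a quasi-coherent module
-/

universe u

set_option autoImplicit false
set_option linter.style.haveILetI false
set_option backward.isDefEq.respectTransparency false
set_option backward.isDefEq.respectTransparency.types false

open CategoryTheory CategoryTheory.Limits AlgebraicGeometry TopologicalSpace Opposite Abelian

namespace Groth.Agent.GaCoh3

variable {X : Scheme.{u}} (F : X.Modules) [Coh.IsQCoh F]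

theorem top_le_preimage (V : X.Opens) : (⊤ : (V.toScheme).Opens) ≤ V.ι ⁻¹ᵁ V := fun x _ => x.2

theorem bijective_res'_ι {V : X.Opens} (hV : IsAffineOpen V) :
    Function.Bijective (ModLimH13.res' V.ι F (top_le_preimage V)) := by
  letI := (V.ι.appLE V ⊤ (top_le_preimage V)).hom.toAlgebra
  haveI : IsAffine V.toScheme := hV
  obtain ⟨Φ, hΦ⟩ := ModLimH13.exists_pullEquiv V.ι F (top_le_preimage V) hV (isAffineOpen_top V.toScheme)
  have hiso : IsIso (V.ι.appLE V ⊤ (top_le_preimage V)) := by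
    rw [Scheme.Hom.appLE]
    haveI : IsIso (V.ι.app V) := by rw [Scheme.Opens.ι_app_self]; infer_instance
    haveI : IsIso (homOfLE (top_le_preimage V)).op := by
      have e : V.ι ⁻¹ᵁ V = ⊤ := top_le_iff.1 (top_le_preimage V)
      have : IsIso (homOfLE (top_le_preimage V)) := ⟨homOfLE le_top, Subsingleton.elim _ _, Subsingleton.elim _ _⟩
      infer_instance
    infer_instance
  have hb : Function.Bijective (algebraMap Γ(X, V) Γ(V.toScheme, ⊤)) :=
    ConcreteCategory.bijective_of_isIso (V.ι.appLE V ⊤ (top_le_preimage V))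
  have h1 : Function.Bijective fun s : Γ(F, V) =>
      (1 : Γ(V.toScheme, ⊤)) ⊗ₜ[Γ(X, V)] s := by
    let l := LinearEquiv.ofBijective (Algebra.linearMap Γ(X, V) Γ(V.toScheme, ⊤)) hb
    let t := (TensorProduct.lid Γ(X, V) Γ(F, V)).symm.trans (LinearEquiv.rTensor Γ(F, V) l)
    have : (fun s : Γ(F, V) => (1 : Γ(V.toScheme, ⊤)) ⊗ₜ[Γ(X, V)] s) = t := funext fun s => by
      show _ = LinearEquiv.rTensor Γ(F, V) l ((TensorProduct.lid Γ(X, V) Γ(F, V)).symm s)
      rw [TensorProduct.lid_symm_apply, LinearEquiv.rTensor_tmul]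
      show _ = algebraMap Γ(X, V) Γ(V.toScheme, ⊤) 1 ⊗ₜ[Γ(X, V)] s
      rw [map_one]
    rw [this]
    exact t.bijective
  have h2 : (ModLimH13.res' V.ι F (top_le_preimage V)) = Φ ∘ fun s => (1 : Γ(V.toScheme, ⊤)) ⊗ₜ[Γ(X, V)] s := by
    funext s
    rw [Function.comp_apply, hΦ, one_smul]
  rw [h2]
  exact Φ.bijective.comp h1

/-- Sections over an open as sections of the pullback to it. -/
noncomputable def rr (U : X.Opens) : Γ(F, U) →+ Ms F ((EtZar.zarToEt X).obj U) :=
  AddMonoidHom.mk' (fun s => ModLimH13.res' U.ι F (top_le_preimage U) s)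
    (fun a b => ModLimH13.res'_add _ _ _ a b)

theorem rr_nat {U V : X.Opens} (i : V ⟶ U) (s : Γ(F, U)) :
    rm F ((EtZar.zarToEt X).map i) (rr F U s) = rr F V (M1.mres F i.le s) := by
  have h1 : rm F ((EtZar.zarToEt X).map i) (rr F U s) = ModLimH13.trans ((EtZar.zarToEt X).map i).left U.ι F
      (Over.w ((EtZar.zarToEt X).map i).hom) (EtAssoc12.top_le _) (rr F U s) :=
    EtAssoc12.resMap_eq F ((EtZar.zarToEt X).map i) (rr F U s)
  rw [h1]
  refine (ModLimH13.trans_res' ((EtZar.zarToEt X).map i).left U.ι F (Over.w ((EtZar.zarToEt X).map i).hom)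
    (EtAssoc12.top_le _) (top_le_preimage U) s).trans ?_
  exact (ModLimH13.res'_mres V.ι F i.le (top_le_preimage V) s).symm

variable {F} {G : EtCoh.Ab X}

/-- Sections of `F` as sections of an associated sheaf. -/
noncomputable def assocRes
    (e : ∀ U : X.Etale, (G.obj.obj (op U) : Type (u + 1)) ≃+ ULift.{u + 1} (EtAssoc.obj F U))
    (he : ∀ (U U' : X.Etale) (g : U' ⟶ U) (s : G.obj.obj (op U)),
      (e U' (G.obj.map g.op s)).down = EtAssoc.resMap F g (e U s).down) :
    (ulSheaf X.toTopCat).obj (Coh.toAb F) ⟶ (EtZar.resZar X).obj G :=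
  ⟨{ app := fun U => AddCommGrpCat.ofHom
      ((e ((EtZar.zarToEt X).obj U.unop)).symm.toAddMonoidHom.comp
        (AddEquiv.ulift.symm.toAddMonoidHom.comp ((rr F U.unop).comp AddEquiv.ulift.toAddMonoidHom)))
     naturality := fun U V i => by
      refine AddCommGrpCat.ext fun s => ?_
      apply (e ((EtZar.zarToEt X).obj V.unop)).injective
      refine ULift.ext _ _ ?_
      have h2 := he _ _ ((EtZar.zarToEt X).map i.unop)
        ((e ((EtZar.zarToEt X).obj U.unop)).symm (ULift.up (rr F U.unop s.down)))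
      rw [AddEquiv.apply_symm_apply] at h2
      refine Eq.trans ?_ h2.symm
      refine Eq.trans ?_ (rr_nat F i.unop s.down).symm
      exact congrArg ULift.down (AddEquiv.apply_symm_apply _ _) }⟩

theorem isIso_assocRes (e : ∀ U : X.Etale, (G.obj.obj (op U) : Type (u + 1)) ≃+ ULift.{u + 1} (EtAssoc.obj F U))
    (he : ∀ (U U' : X.Etale) (g : U' ⟶ U) (s : G.obj.obj (op U)),
      (e U' (G.obj.map g.op s)).down = EtAssoc.resMap F g (e U s).down) :
    IsIso (assocRes e he) := by
  let θ := assocRes e he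
  have key : ∀ V : X.Opens, IsAffineOpen V → Function.Bijective (θ.hom.app (op V)) := fun V hV =>
    ((e _).symm.bijective.comp (AddEquiv.ulift.symm.bijective.comp
      ((bijective_res'_ι F hV).comp AddEquiv.ulift.bijective)))
  have cover : ∀ (U : X.Opens) (x : X), x ∈ U → ∃ V : X.Opens, IsAffineOpen V ∧ x ∈ V ∧ V ≤ U := by
    intro U x hx
    obtain ⟨_, ⟨V, hV, rfl⟩, hxV, hle⟩ := X.isBasis_affineOpens.exists_subset_of_mem_open hx U.2
    exact ⟨V, hV, hxV, hle⟩
  haveI : Sheaf.IsLocallySurjective θ := ⟨fun {U} s x hx => by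
    obtain ⟨V, hV, hxV, hle⟩ := cover U x hx
    exact ⟨V, homOfLE hle, (key V hV).2 _, hxV⟩⟩
  haveI : Sheaf.IsLocallyInjective θ := ⟨fun {U} a b hab x hx => by
    obtain ⟨V, hV, hxV, hle⟩ := cover U.unop x hx
    refine ⟨V, homOfLE hle, (key V hV).1 ?_, hxV⟩
    have h := congrArg (((EtZar.resZar X).obj G).obj.map (homOfLE hle).op) hab
    exact ((NatTrans.naturality_apply θ.hom (homOfLE hle).op a).trans h).trans
      (NatTrans.naturality_apply θ.hom (homOfLE hle).op b).symm⟩
  exact (Sheaf.isLocallyBijective_iff_isIso θ).1 ⟨inferInstance, inferInstance⟩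

theorem exists_H_assoc_equiv (hG : EtAssoc.IsAssoc F G) (n : ℕ) :
    Nonempty (EtCoh.H X G n ≃+ ULift.{u + 1} (Coh.HH X F n)) := by
  obtain ⟨e₁, -⟩ := hasCompare_resZar X G (acycAff_of_isAssoc F hG) n
  obtain ⟨e₂, -⟩ := hasCompare_ulSheaf X.toTopCat (Coh.toAb F) n
  obtain ⟨e, he⟩ := hG
  haveI := isIso_assocRes e he
  let i := (asIso (assocRes e he)).symm
  let e₀ : EtZar.H ((EtZar.resZar X).obj G) n ≃+ Sheaf.H ((ulSheaf X.toTopCat).obj (Coh.toAb F)) n :=
    { toFun := fun x => Sheaf.H.map i.hom n x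
      invFun := fun x => Sheaf.H.map i.inv n x
      left_inv := fun x => by
        show (x.comp (Ext.mk₀ i.hom) (add_zero n)).comp (Ext.mk₀ i.inv) (add_zero n) = x
        rw [Ext.comp_assoc_of_third_deg_zero, Ext.mk₀_comp_mk₀, Iso.hom_inv_id, Ext.comp_mk₀_id]
      right_inv := fun x => by
        show (x.comp (Ext.mk₀ i.inv) (add_zero n)).comp (Ext.mk₀ i.hom) (add_zero n) = x
        rw [Ext.comp_assoc_of_third_deg_zero, Ext.mk₀_comp_mk₀, Iso.inv_hom_id, Ext.comp_mk₀_id]
      map_add' := fun x y => map_add _ x y }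
  exact ⟨(e₁.trans (e₀.trans e₂.symm)).trans AddEquiv.ulift.symm⟩

end Groth.Agent.GaCoh3
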