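import Groth.Agent.Lib.GaCoh3.Cartan
import Groth.Prelude.Def_EtGm

/-!
# The additive group has exact Čech complexes for affine coverings of affine objects
-/

universe u

set_option autoImplicit false
set_option linter.style.haveILetI false
set_option backward.isDefEq.respectTransparency false

open CategoryTheory CategoryTheory.Limits AlgebraicGeometry Opposite TensorProduct Groth.Agent.Cech24

namespace Groth.Agent.GaCoh3

theorem bijective_lift_of_isPushout {R B M P : Type u} [CommRing R] [CommRing B] [CommRing M] [CommRing P]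
    [Algebra R B] [Algebra R M] [Algebra R P] (il : B →ₐ[R] P) (ir : M →ₐ[R] P)
    (h : IsPushout (CommRingCat.ofHom (algebraMap R B)) (CommRingCat.ofHom (algebraMap R M))
      (CommRingCat.ofHom il.toRingHom) (CommRingCat.ofHom ir.toRingHom)) :
    Function.Bijective (Algebra.TensorProduct.lift il ir fun _ _ => Commute.all _ _) := by
  let T := Algebra.TensorProduct.lift il ir fun _ _ => Commute.all _ _
  let e := (CommRingCat.isPushout_tensorProduct R B M).isoIsPushout _ _ h
  have he : e.hom = CommRingCat.ofHom T.toRingHom := by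
    refine (CommRingCat.isPushout_tensorProduct R B M).hom_ext ?_ ?_
    · rw [IsPushout.inl_isoIsPushout_hom]
      ext b
      show il b = T (b ⊗ₜ 1)
      simp [T]
    · rw [IsPushout.inr_isoIsPushout_hom]
      ext m
      show ir m = T (1 ⊗ₜ m)
      simp [T]
  have hb := ConcreteCategory.bijective_of_isIso e.hom
  rw [he] at hb
  exact hb

variable {X : Scheme.{u}}

/-- Global functions on an object. -/
abbrev Γo (E : X.Etale) : Type u := Γ(E.left, ⊤)

/-- Pullback of functions along a morphism of the site. -/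
noncomputable abbrev γ {E E' : X.Etale} (g : E' ⟶ E) : Γo E →+* Γo E' := g.left.appTop.hom

theorem γ_comp {E E' E'' : X.Etale} (g : E' ⟶ E) (h : E'' ⟶ E') (a : Γo E) : γ (h ≫ g) a = γ h (γ g a) := by
  change (h.left ≫ g.left).appTop.hom a = _
  rw [Scheme.Hom.comp_appTop]
  rfl

theorem γ_congr {E E' : X.Etale} {g g' : E' ⟶ E} (h : g = g') (a : Γo E) : γ g a = γ g' a := by rw [h]

theorem γ_id (E : X.Etale) (a : Γo E) : γ (𝟙 E) a = a := by
  change (𝟙 E.left : E.left ⟶ E.left).appTop.hom a = a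
  rw [Scheme.Hom.id_appTop]
  rfl

/-- The map of fibre products induced by a map over `E`. -/
noncomputable def pbMap {E E₀ A B : X.Etale} (h : E₀ ⟶ E) (kA : A ⟶ E) (kB : B ⟶ E) (f : A ⟶ B)
    (hf : f ≫ kB = kA) : pullback h kA ⟶ pullback h kB :=
  pullback.lift (pullback.fst h kA) (pullback.snd h kA ≫ f) (by rw [Category.assoc, hf, pullback.condition])

theorem pbMap_fst {E E₀ A B : X.Etale} (h : E₀ ⟶ E) (kA : A ⟶ E) (kB : B ⟶ E) (f : A ⟶ B) (hf : f ≫ kB = kA) :
    pbMap h kA kB f hf ≫ pullback.fst h kB = pullback.fst h kA := pullback.lift_fst _ _ _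

theorem pbMap_snd {E E₀ A B : X.Etale} (h : E₀ ⟶ E) (kA : A ⟶ E) (kB : B ⟶ E) (f : A ⟶ B) (hf : f ≫ kB = kA) :
    pbMap h kA kB f hf ≫ pullback.snd h kB = pullback.snd h kA ≫ f := pullback.lift_snd _ _ _

section Contract

variable {E E₀ : X.Etale} (h : E₀ ⟶ E)

/-- The faces after base change. -/
noncomputable abbrev G (n : ℕ) (i : Fin (n + 2)) :
    pullback h (pr1 h (n + 1)).hom ⟶ pullback h (pr1 h n).hom :=
  pbMap h (pr1 h (n + 1)).hom (pr1 h n).hom (face1 h n i) (face1_comp h n i)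

/-- The extra degeneracy after base change. -/
noncomputable def ψ (n : ℕ) : pullback h (pr1 h n).hom ⟶ pullback h (pr1 h (n + 1)).hom :=
  pullback.lift (pullback.fst h (pr1 h n).hom) (Θ h n)
    (by rw [← prπ_comp h (n + 1) 0, ← Category.assoc, Θ_zero])

theorem ψ_fst (n : ℕ) : ψ h n ≫ pullback.fst h (pr1 h (n + 1)).hom = pullback.fst h (pr1 h n).hom :=
  pullback.lift_fst _ _ _

theorem ψ_snd (n : ℕ) : ψ h n ≫ pullback.snd h (pr1 h (n + 1)).hom = Θ h n := pullback.lift_snd _ _ _

theorem ψ_G_zero (n : ℕ) : ψ h (n + 1) ≫ G h (n + 1) 0 = 𝟙 _ := by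
  refine pullback.hom_ext ?_ (pr1_hom_ext fun j => ?_)
  · rw [Category.assoc, pbMap_fst, ψ_fst, Category.id_comp]
  · simp only [Category.assoc, Category.id_comp]
    rw [reassoc_of% (pbMap_snd h _ _ (face1 h (n + 1) 0) (face1_comp h (n + 1) 0)), reassoc_of% (ψ_snd h (n + 1)), fc_π,
      Fin.succAbove_zero, Θ_succ]

theorem ψ_G_succ (n : ℕ) (i : Fin (n + 2)) : ψ h (n + 1) ≫ G h (n + 1) i.succ = G h n i ≫ ψ h n := by
  refine pullback.hom_ext ?_ (pr1_hom_ext fun j => ?_)
  · rw [Category.assoc, Category.assoc, pbMap_fst, ψ_fst, ψ_fst, pbMap_fst]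
  · simp only [Category.assoc]
    rw [reassoc_of% (pbMap_snd h _ _ (face1 h (n + 1) i.succ) (face1_comp h (n + 1) i.succ)), reassoc_of% (ψ_snd h (n + 1)),
      reassoc_of% (ψ_snd h n), fc_π]
    refine Fin.cases ?_ (fun j => ?_) j
    · rw [Fin.succ_succAbove_zero, Θ_zero, Θ_zero, pbMap_fst]
    · rw [Fin.succ_succAbove_succ, Θ_succ, Θ_succ, reassoc_of% (pbMap_snd h _ _ (face1 h n i) (face1_comp h n i)), fc_π]

theorem exists_contraction (n : ℕ) (z : Γo (pullback h (pr1 h (n + 1)).hom))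
    (hz : ∑ i : Fin (n + 3), (-1 : ℤ) ^ (i : ℕ) • γ (G h (n + 1) i) z = 0) :
    ∑ i : Fin (n + 2), (-1 : ℤ) ^ (i : ℕ) • γ (G h n i) (γ (ψ h n) z) = z := by
  have e := congrArg (γ (ψ h (n + 1))) hz
  rw [map_zero, map_sum, Fin.sum_univ_succ] at e
  simp only [map_zsmul, map_neg, ← γ_comp, ψ_G_zero, ψ_G_succ, γ_id, Fin.val_zero, pow_zero, one_smul,
    Fin.val_succ, pow_succ, mul_neg, mul_one, neg_smul, Finset.sum_neg_distrib] at e
  simp only [← γ_comp]
  exact (neg_add_eq_zero.1 ((add_comm _ _).trans e))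

end Contract

theorem acycAff_Ga : AcycAff (EtCoh.Ga X) := by
  intro E E₀ _ _ h hs n
  have haff := isAffine_pr1 h
  let M : ℕ → Type u := fun m => Γo (pr1 h m).left
  let P : ℕ → Type u := fun m => Γo (pullback h (pr1 h m).hom)
  letI : Algebra (Γo E) (Γo E₀) := (γ h).toAlgebra
  letI : ∀ m, Algebra (Γo E) (M m) := fun m => (γ (pr1 h m).hom).toAlgebra
  letI : ∀ m, Algebra (Γo E) (P m) := fun m =>
    ((γ (pullback.fst h (pr1 h m).hom)).comp (γ h)).toAlgebra
  have : Module.FaithfullyFlat (Γo E) (Γo E₀) := faithfullyFlat_appTop h hs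
  let il : ∀ m, Γo E₀ →ₐ[Γo E] P m := fun m =>
    { toRingHom := γ (pullback.fst h (pr1 h m).hom), commutes' := fun _ => rfl }
  let ir : ∀ m, M m →ₐ[Γo E] P m := fun m =>
    { toRingHom := γ (pullback.snd h (pr1 h m).hom)
      commutes' := fun a => ((γ_comp _ _ a).symm.trans (γ_congr pullback.condition.symm a)).trans (γ_comp _ _ a) }
  let sq : ∀ m, Γo E₀ ⊗[Γo E] M m →ₐ[Γo E] P m := fun m =>
    Algebra.TensorProduct.lift (il m) (ir m) fun _ _ => Commute.all _ _
  have hsq : ∀ m, Function.Bijective (sq m) := fun m => by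
    have := haff m
    exact bijective_lift_of_isPushout (il m) (ir m) (isPushout_appTop h (pr1 h m).hom)
  let fa : ∀ m, Fin (m + 2) → (M m →ₐ[Γo E] M (m + 1)) := fun m i =>
    { toRingHom := γ (face1 h m i)
      commutes' := fun a => (γ_comp _ _ a).symm.trans (γ_congr (face1_comp h m i) a) }
  let D : ∀ m, M m →ₗ[Γo E] M (m + 1) := fun m =>
    ∑ i : Fin (m + 2), (-1 : ℤ) ^ (i : ℕ) • (fa m i).toLinearMap
  have hDapp : ∀ m (x : M m), D m x = ∑ i : Fin (m + 2), (-1 : ℤ) ^ (i : ℕ) • γ (face1 h m i) x := fun m x => by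
    rw [LinearMap.sum_apply]
    rfl
  have hd : ∀ (m : ℕ) (x : M m) (a : Fin (m + 2) → PUnit.{u + 2}),
      dCochain (one h) (EtCoh.Ga X).obj (fun _ => ULift.up x) a = ULift.up (D m x) := fun m x a => by
    rw [hDapp, dCochain]
    exact (map_sum (AddEquiv.ulift.{u, u + 1} (α := M (m + 1))).symm _ _).symm.trans rfl
  have hDD : ∀ m (x : M m), D (m + 1) (D m x) = 0 := fun m x => by
    have h0 := congrFun (dCochain_dCochain (one h) (EtCoh.Ga X).obj (n := m) fun _ => ULift.up x) fun _ => PUnit.unit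
    rw [show dCochain (one h) (EtCoh.Ga X).obj (fun _ : Fin (m + 1) → PUnit.{u + 2} => ULift.up x) =
      fun _ => ULift.up (D m x) from funext (hd m x), hd] at h0
    exact congrArg ULift.down h0
  have hnat : ∀ m (z : Γo E₀ ⊗[Γo E] M m), sq (m + 1) ((D m).lTensor (Γo E₀) z) =
      ∑ i : Fin (m + 2), (-1 : ℤ) ^ (i : ℕ) • γ (G h m i) (sq m z) := fun m z => by
    induction z using TensorProduct.induction_on with
    | zero => simp
    | tmul c x =>
      rw [LinearMap.lTensor_tmul, hDapp, TensorProduct.tmul_sum, map_sum]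
      refine Finset.sum_congr rfl fun i _ => ?_
      rw [TensorProduct.tmul_smul, map_zsmul]
      congr 1
      simp only [sq, Algebra.TensorProduct.lift_tmul, map_mul]
      show γ _ c * γ _ (γ (face1 h m i) x) = γ _ (γ _ c) * γ _ (γ _ x)
      rw [← γ_comp (h := G h m i), ← γ_comp (h := G h m i), pbMap_fst, pbMap_snd, γ_comp]
    | add x y hx hy => simp only [map_add, hx, hy, smul_add, Finset.sum_add_distrib]
  have hex : Function.Exact (D n) (D (n + 1)) := by
    refine Module.FaithfullyFlat.lTensor_reflects_exact (Γo E) (Γo E₀) _ _ fun z => ⟨fun hz => ?_, ?_⟩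
    · have := exists_contraction h n (sq (n + 1) z) (by rw [← hnat, hz, map_zero])
      obtain ⟨w, hw⟩ := (hsq n).2 (γ (ψ h n) (sq (n + 1) z))
      refine ⟨w, (hsq (n + 1)).1 ?_⟩
      rw [hnat, hw, this]
    · rintro ⟨w, rfl⟩
      rw [← LinearMap.lTensor_comp_apply, show D (n + 1) ∘ₗ D n = 0 from LinearMap.ext (hDD n),
        LinearMap.lTensor_zero, LinearMap.zero_apply]
  refine isZero_of_exists _ _ fun c hc => ?_
  obtain ⟨b, hb⟩ := (hex (c fun _ => PUnit.unit).down).1 (by
    have h0 := congrFun hc fun _ => PUnit.unit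
    rw [show c = fun _ => ULift.up (c fun _ => PUnit.unit).down from funext fun a => rfl, hd] at h0
    exact congrArg ULift.down h0)
  exact ⟨fun _ => ULift.up b, funext fun a => (hd n b a).trans (ULift.ext _ _ hb)⟩

end Groth.Agent.GaCoh3
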