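import Groth.Agent.Lib.Cech24.Quotient
import Groth.Agent.Lib.ExtShriek24.Iso
import Mathlib

/-!
# Affine objects of the small étale site of a scheme
-/

universe u

set_option autoImplicit false
set_option backward.isDefEq.respectTransparency false

open CategoryTheory CategoryTheory.Limits AlgebraicGeometry Opposite

namespace Groth.Agent.GaCoh3

variable {X : Scheme.{u}}

instance hasPullbacks_etale : HasPullbacks X.Etale := inferInstance

instance hasFiniteProducts_over (E : X.Etale) : HasFiniteProducts (Over E) :=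
  haveI := Over.ConstructProducts.over_binaryProduct_of_pullback (B := E)
  hasFiniteProducts_of_has_binary_and_terminal

theorem isPullback_left {A B C : X.Etale} (f : A ⟶ C) (g : B ⟶ C) :
    IsPullback (pullback.fst f g).left (pullback.snd f g).left f.left g.left :=
  (IsPullback.of_hasPullback f g).map (Scheme.Etale.forget X ⋙ Over.forget X)

instance isAffine_pullback {A B C : X.Etale} (f : A ⟶ C) (g : B ⟶ C) [IsAffine A.left] [IsAffine B.left]
    [IsAffine C.left] : IsAffine (pullback f g).left :=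
  .of_isPullback (isPullback_left f g)

theorem isPushout_appTop {A B C : X.Etale} (f : A ⟶ C) (g : B ⟶ C) [IsAffine A.left] [IsAffine B.left]
    [IsAffine C.left] :
    IsPushout f.left.appTop g.left.appTop (pullback.fst f g).left.appTop (pullback.snd f g).left.appTop :=
  isPushout_appTop_of_isPullback (isPullback_left f g)

theorem etale_left {A B : X.Etale} (f : A ⟶ B) : AlgebraicGeometry.Etale f.left := by
  have : AlgebraicGeometry.Etale (f.left ≫ B.hom) := by
    rw [MorphismProperty.Over.w f]; exact A.prop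
  have : AlgebraicGeometry.Etale B.hom := B.prop
  exact Etale.of_comp f.left B.hom

theorem faithfullyFlat_appTop {A B : X.Etale} (f : A ⟶ B) [IsAffine A.left] [IsAffine B.left]
    (h : Surjective f.left) : f.left.appTop.hom.FaithfullyFlat := by
  have := etale_left f
  exact (Flat.flat_and_surjective_iff_faithfullyFlat_of_isAffine f.left).1 ⟨inferInstance, h⟩

theorem isSheaf_type (F : EtCoh.Ab X) :
    Presieve.IsSheaf X.smallEtaleTopology (F.obj ⋙ CategoryTheory.forget AddCommGrpCat.{u + 1}) :=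
  (isSheaf_iff_isSheaf_of_type _ _).1 ((Presheaf.isSheaf_iff_isSheaf_forget _ F.obj (forget _)).1 F.property)

theorem ofArrows_mem {E : X.Etale} {ι : Type*} (Y : ι → X.Etale) (g : ∀ i, Y i ⟶ E)
    (h : ∀ x : ↥E.left, ∃ i, x ∈ Set.range (g i).left) :
    Sieve.generate (Presieve.ofArrows Y g) ∈ X.smallEtaleTopology E := by
  rw [Groth.Agent.EtSite.mem_et_iff]
  intro x
  obtain ⟨i, y, hy⟩ := h x
  exact ⟨Y i, g i, y, Sieve.le_generate _ _ _ (Presieve.ofArrows.mk i), hy⟩

theorem ab_ext_family (F : EtCoh.Ab X) {E : X.Etale} {ι : Type*} (Y : ι → X.Etale) (g : ∀ i, Y i ⟶ E)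
    (h : ∀ x : ↥E.left, ∃ i, x ∈ Set.range (g i).left) {m m' : F.obj.obj (op E)}
    (e : ∀ i, F.obj.map (g i).op m = F.obj.map (g i).op m') : m = m' :=
  ((Presieve.isSheafFor_iff_generate _).2 (isSheaf_type F _ (ofArrows_mem Y g h))).isSeparatedFor.ext
    fun _ _ hf => by obtain ⟨i⟩ := hf; exact e i

theorem ab_glue_family (F : EtCoh.Ab X) {E : X.Etale} {ι : Type*} (Y : ι → X.Etale) (g : ∀ i, Y i ⟶ E)
    (h : ∀ x : ↥E.left, ∃ i, x ∈ Set.range (g i).left) (m : ∀ i, F.obj.obj (op (Y i)))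
    (hm : ∀ i j (Z : X.Etale) (a : Z ⟶ Y i) (b : Z ⟶ Y j), a ≫ g i = b ≫ g j →
      F.obj.map a.op (m i) = F.obj.map b.op (m j)) :
    ∃ m₀ : F.obj.obj (op E), ∀ i, F.obj.map (g i).op m₀ = m i := by
  obtain ⟨x, hx, -⟩ := (Presieve.isSheafFor_arrows_iff _ _).1
    ((Presieve.isSheafFor_iff_generate _).2 (isSheaf_type F _ (ofArrows_mem Y g h))) m hm
  exact ⟨x, hx⟩

/-- A covering sieve of an affine object contains the pieces of a disjoint finite affine covering. -/
theorem exists_affine_coprod (E : X.Etale) [IsAffine E.left] (S : Sieve E)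
    (hS : S ∈ X.smallEtaleTopology E) :
    ∃ (E₀ : X.Etale) (_ : IsAffine E₀.left) (h : E₀ ⟶ E) (κ : Type u) (Z : κ → X.Etale)
      (ι : ∀ k, Z k ⟶ E₀),
      Surjective h.left ∧ (∀ k, S (ι k ≫ h)) ∧ (∀ k, Mono (ι k).left) ∧
      (∀ x : ↥E₀.left, ∃ k, x ∈ Set.range (ι k).left) ∧
      (∀ k l (W : X.Etale) (a : W ⟶ Z k) (b : W ⟶ Z l), a ≫ ι k = b ≫ ι l → k ≠ l → IsEmpty ↥W.left) := by
  classical
  rw [Groth.Agent.EtSite.mem_et_iff] at hS
  choose Y f y hf hy using hS
  choose O hO hyO _ using fun x => exists_isAffineOpen_mem_and_subset (U := (⊤ : (Y x).left.Opens))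
    (x := y x) trivial
  have hopen : ∀ x, IsOpen ((f x).left '' (O x : Set (Y x).left)) := fun x => by
    have := etale_left (f x)
    exact (f x).left.isOpenMap _ (O x).isOpen
  obtain ⟨t, ht⟩ := isCompact_univ.elim_finite_subcover _ hopen
    (fun x _ => Set.mem_iUnion.mpr ⟨x, y x, hyO x, hy x⟩)
  let Z : t → X.Etale := fun k => Groth.Agent.EtSite.sub (Y k.1) (O k.1)
  have : ∀ k, IsAffine (Z k).left := fun k => hO k.1
  let V : X.Etale := MorphismProperty.Over.mk ⊤ (Sigma.desc fun k => (Z k).hom)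
    (IsZariskiLocalAtSource.sigmaDesc (fun k => (Z k).prop))
  let q : ∀ k : t, Z k ⟶ E := fun k => Groth.Agent.EtSite.subHom (Y k.1) (O k.1) ≫ f k.1
  let g : V ⟶ E := MorphismProperty.Over.homMk (Sigma.desc fun k => (q k).left) (Sigma.hom_ext _ _ fun k => by
    simp only [V, MorphismProperty.Over.mk_hom, Sigma.ι_desc_assoc, Sigma.ι_desc]
    exact MorphismProperty.Over.w _)
  let ι : ∀ k, Z k ⟶ V := fun k =>
    MorphismProperty.Over.homMk (Sigma.ι (fun k => (Z k).left) k) (Sigma.ι_desc _ _)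
  have hιg : ∀ k, ι k ≫ g = q k := fun k => MorphismProperty.Over.Hom.ext (Sigma.ι_desc _ _)
  refine ⟨V, (inferInstance : IsAffine (∐ fun k => (Z k).left)), g, t, Z, ι, ⟨fun u => ?_⟩, fun k => ?_,
    fun k => (inferInstance : Mono (Sigma.ι (fun k => (Z k).left) k)), fun v => ?_, fun k l W a b e hkl => ?_⟩
  · obtain ⟨x, hx, w, hw', rfl⟩ : ∃ x ∈ t, u ∈ (f x).left '' (O x : Set (Y x).left) := by
      simpa using ht (Set.mem_univ u)
    exact ⟨(ι ⟨x, hx⟩).left ⟨w, hw'⟩, congr(($(hιg ⟨x, hx⟩)).left ⟨w, hw'⟩)⟩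
  · rw [hιg]
    exact S.downward_closed (hf k.1) _
  · obtain ⟨⟨k, z⟩, hz⟩ := (sigmaMk (fun k => (Z k).left)).surjective v
    exact ⟨k, z, by rw [← hz, sigmaMk_mk]; rfl⟩
  · refine ⟨fun w => ?_⟩
    have := congrArg (fun r => r.left w) e
    change Sigma.ι (fun k => (Z k).left) k (a.left w) = Sigma.ι (fun k => (Z k).left) l (b.left w) at this
    rw [← sigmaMk_mk, ← sigmaMk_mk] at this
    exact hkl (congrArg Sigma.fst ((sigmaMk _).injective this))

end Groth.Agent.GaCoh3
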