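import Mathlib

/-!
# Lifting injective abelian sheaves on a space to a higher universe
-/

universe u

set_option autoImplicit false
set_option linter.style.haveILetI false
set_option backward.isDefEq.respectTransparency false

open CategoryTheory CategoryTheory.Limits TopologicalSpace Opposite TopCat

namespace Groth.Agent.GaCoh3

/-- Lifting a universe preserves injective abelian groups. -/
theorem injective_ulift (D : AddCommGrpCat.{u}) [Injective D] :
    Injective (AddCommGrpCat.uliftFunctor.{u + 1}.obj D) := by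
  let Z : AddCommGrpCat.{u} := AddCommGrpCat.of (ULift.{u} ℤ)
  have hdiv : ∀ {n : ℤ}, n ≠ 0 → Function.Surjective fun a : D => n • a := fun {n} hn a => by
    let m : Z ⟶ Z := AddCommGrpCat.ofHom (AddMonoidHom.mk' (fun x => ⟨n * x.down⟩) fun x y => by ext; exact mul_add _ _ _)
    have : Mono m := (AddCommGrpCat.mono_iff_injective _).2 fun x y e =>
      ULift.ext _ _ (mul_left_cancel₀ hn (congrArg ULift.down e))
    let f : Z ⟶ D := AddCommGrpCat.ofHom ((zmultiplesHom D a).comp AddEquiv.ulift.toAddMonoidHom)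
    refine ⟨Injective.factorThru f m ⟨1⟩, ?_⟩
    have h : Injective.factorThru f m (m ⟨1⟩) = f ⟨1⟩ :=
      ConcreteCategory.congr_hom (Injective.comp_factorThru f m) (⟨1⟩ : ULift.{u} ℤ)
    have h' : m ⟨1⟩ = (n • (⟨1⟩ : ULift.{u} ℤ) : ULift.{u} ℤ) := by
      ext
      show n * 1 = n • (1 : ℤ)
      simp
    rw [h', map_zsmul] at h
    refine h.trans ?_
    show (1 : ℤ) • a = a
    exact one_zsmul a
  letI : DivisibleBy (ULift.{u + 1} D) ℤ := divisibleByOfSMulRightSurj _ _ fun {n} hn => fun a => by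
    obtain ⟨b, hb⟩ := hdiv hn a.down
    exact ⟨⟨b⟩, ULift.ext _ _ hb⟩
  exact AddCommGrpCat.injective_of_divisible (ULift.{u + 1} D)

variable (X : TopCat.{u})

instance hasSheafify_up : HasSheafify (Opens.grothendieckTopology X) AddCommGrpCat.{u + 1} :=
  haveI : EssentiallySmall.{u + 1} (Opens X) := essentiallySmall_of_small_of_locallySmall _
  hasSheafifyEssentiallySmallSite _ _

/-- Sheaves of abelian groups, lifted one universe up. -/
noncomputable abbrev ulSheaf : Sheaf (Opens.grothendieckTopology X) AddCommGrpCat.{u} ⥤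
    Sheaf (Opens.grothendieckTopology X) AddCommGrpCat.{u + 1} :=
  sheafCompose _ AddCommGrpCat.uliftFunctor.{u + 1}

variable {X}

open Classical in
theorem injective_ulSheaf_sky (p : X) (D : AddCommGrpCat.{u}) [Injective D] :
    Injective ((ulSheaf X).obj (skyscraperSheaf p D)) := by
  let S := (ulSheaf X).obj (skyscraperSheaf p D)
  let D' := AddCommGrpCat.uliftFunctor.{u + 1}.obj D
  haveI : Injective D' := injective_ulift D
  let e : ∀ (U : (Opens X)ᵒᵖ), p ∈ U.unop → (S.obj.obj U ≅ D') := fun U h =>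
    AddCommGrpCat.uliftFunctor.{u + 1}.mapIso (eqToIso (if_pos h))
  have hz : ∀ (U : (Opens X)ᵒᵖ), p ∉ U.unop → IsZero (S.obj.obj U) := fun U h => by
    refine Functor.map_isZero AddCommGrpCat.uliftFunctor.{u + 1} ?_
    show IsZero (if p ∈ U.unop then D else ⊤_ _)
    rw [if_neg h]
    exact (isZero_zero _).of_iso (IsTerminal.uniqueUpToIso terminalIsTerminal (IsZero.isTerminal (isZero_zero _)))
  have hmap : ∀ {U V : (Opens X)ᵒᵖ} (i : U ⟶ V) (hU : p ∈ U.unop) (hV : p ∈ V.unop),
      S.obj.map i ≫ (e V hV).hom = (e U hU).hom := fun {U V} i hU hV => by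
    show AddCommGrpCat.uliftFunctor.{u + 1}.map ((skyscraperPresheaf p D).map i) ≫
      AddCommGrpCat.uliftFunctor.{u + 1}.map (eqToHom (if_pos hV)) = AddCommGrpCat.uliftFunctor.{u + 1}.map (eqToHom (if_pos hU))
    rw [← Functor.map_comp, skyscraperPresheaf_map, dif_pos hV, eqToHom_trans]
  let L : ((Opens X)ᵒᵖ ⥤ AddCommGrpCat.{u + 1}) ⥤ AddCommGrpCat.{u + 1} :=
    (Functor.whiskeringLeft _ _ _).obj (OpenNhds.inclusion p).op ⋙ colim
  haveI : IsFiltered (OpenNhds p)ᵒᵖ := inferInstance
  constructor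
  intro F G φ m hm
  haveI : Mono m.hom := inferInstanceAs (Mono ((sheafToPresheaf _ _).map m))
  haveI : Mono (Functor.whiskerLeft (OpenNhds.inclusion p).op m.hom) := by
    haveI : ∀ W, Mono ((Functor.whiskerLeft (OpenNhds.inclusion p).op m.hom).app W) := fun W =>
      (NatTrans.mono_iff_mono_app m.hom).1 inferInstance _
    exact NatTrans.mono_of_mono_app _
  haveI : AB5OfSize.{u, u} AddCommGrpCat.{u + 1} := AB5OfSize_of_univLE.{u, u, u + 1, u + 1} AddCommGrpCat.{u + 1}
  haveI : Mono (L.map m.hom) := colim.map_mono (Functor.whiskerLeft (OpenNhds.inclusion p).op m.hom)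
  let χ : Cocone ((OpenNhds.inclusion p).op ⋙ F.obj) :=
    { pt := D'
      ι :=
        { app := fun W => φ.hom.app ((OpenNhds.inclusion p).op.obj W) ≫ (e _ W.unop.2).hom
          naturality := fun W W' i => by
            simp only [Functor.comp_map, Functor.const_obj_map]
            rw [φ.hom.naturality_assoc, hmap _ W.unop.2 W'.unop.2]
            exact (Category.comp_id _).symm } }
  let ψ : L.obj G.obj ⟶ D' := Injective.factorThru (colimit.desc _ χ : L.obj F.obj ⟶ D') (L.map m.hom)
  let germ : ∀ (U : (Opens X)ᵒᵖ), p ∈ U.unop → (G.obj.obj U ⟶ L.obj G.obj) := fun U h =>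
    colimit.ι ((OpenNhds.inclusion p).op ⋙ G.obj) (op ⟨U.unop, h⟩)
  let φ' : G ⟶ S := ⟨{
    app := fun U => if h : p ∈ U.unop then germ U h ≫ ψ ≫ (e U h).inv else 0
    naturality := fun U V i => by
      by_cases hV : p ∈ V.unop
      · have hU : p ∈ U.unop := i.unop.le hV
        rw [dif_pos hV, dif_pos hU]
        have h1 : G.obj.map i ≫ germ V hV = germ U hU := by
          refine Eq.trans ?_ (colimit.w ((OpenNhds.inclusion p).op ⋙ G.obj)
            ((homOfLE i.unop.le : (⟨V.unop, hV⟩ : OpenNhds p) ⟶ ⟨U.unop, hU⟩).op))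
          rfl
        rw [reassoc_of% h1, Category.assoc, Category.assoc, ← cancel_mono (e V hV).hom]
        simp only [Category.assoc, Iso.inv_hom_id, hmap i hU hV]
      · exact (hz V hV).eq_of_tgt _ _ }⟩
  refine ⟨φ', Sheaf.hom_ext (NatTrans.ext (funext fun U => ?_))⟩
  by_cases h : p ∈ U.unop
  · show m.hom.app U ≫ (if h : p ∈ U.unop then germ U h ≫ ψ ≫ (e U h).inv else 0) = φ.hom.app U
    rw [dif_pos h]
    have h1 : m.hom.app U ≫ germ U h = colimit.ι ((OpenNhds.inclusion p).op ⋙ F.obj) (op ⟨U.unop, h⟩) ≫ L.map m.hom :=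
      (ι_colimMap (Functor.whiskerLeft (OpenNhds.inclusion p).op m.hom) (op ⟨U.unop, h⟩)).symm
    rw [reassoc_of% h1, reassoc_of% (Injective.comp_factorThru (colimit.desc _ χ : L.obj F.obj ⟶ D') (L.map m.hom))]
    erw [colimit.ι_desc_assoc]
    simp only [χ, Category.assoc]
    erw [Iso.hom_inv_id]
    exact Category.comp_id _
  · exact (hz U h).eq_of_tgt _ _

/-- The functor lifting the universe sends injective sheaves to injective sheaves. -/
theorem injective_ulSheaf_obj (I : Sheaf (Opens.grothendieckTopology X) AddCommGrpCat.{u}) [Injective I] :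
    Injective ((ulSheaf X).obj I) := by
  classical
  let D : X → AddCommGrpCat.{u} := fun p => Injective.under ((Presheaf.stalkFunctor AddCommGrpCat.{u} p).obj I.obj)
  let sk : X → Sheaf (Opens.grothendieckTopology X) AddCommGrpCat.{u} := fun p => skyscraperSheaf p (D p)
  let t : ∀ p, I ⟶ sk p := fun p =>
    ⟨StalkSkyscraperPresheafAdjunctionAuxs.toSkyscraperPresheaf p (Injective.ι _)⟩
  let t' : I ⟶ ∏ᶜ sk := Pi.lift t
  haveI : Mono t' := by
    haveI : ∀ x, Mono ((Presheaf.stalkFunctor AddCommGrpCat.{u} x).map t'.hom) := fun x => by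
      suffices key : (Presheaf.stalkFunctor AddCommGrpCat.{u} x).map t'.hom ≫
          StalkSkyscraperPresheafAdjunctionAuxs.fromStalk x (Pi.π sk x).hom =
            Injective.ι ((Presheaf.stalkFunctor AddCommGrpCat.{u} x).obj I.obj) by
        haveI : Mono ((Presheaf.stalkFunctor AddCommGrpCat.{u} x).map t'.hom ≫
            StalkSkyscraperPresheafAdjunctionAuxs.fromStalk x (Pi.π sk x).hom) := by
          rw [key]
          exact Injective.ι_mono _
        exact mono_of_mono _ (StalkSkyscraperPresheafAdjunctionAuxs.fromStalk x (Pi.π sk x).hom)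
      refine Presheaf.stalk_hom_ext _ fun U hU => ?_
      rw [Presheaf.stalkFunctor_map_germ_assoc]
      erw [StalkSkyscraperPresheafAdjunctionAuxs.germ_fromStalk]
      have h1 : t'.hom ≫ (Pi.π sk x).hom = (t x).hom := congrArg (fun q => q.hom) (Pi.lift_π t x)
      rw [← NatTrans.comp_app_assoc, h1]
      simp [t, hU]
    exact Presheaf.mono_of_stalk_mono (C := AddCommGrpCat.{u}) (X := X) t'
  haveI : ∀ p, Injective ((ulSheaf X).obj (sk p)) := fun p => injective_ulSheaf_sky p (D p)
  haveI : PreservesLimitsOfShape (Discrete X) (ulSheaf X) := by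
    haveI : PreservesLimitsOfShape (Discrete X) (ulSheaf X ⋙ sheafToPresheaf _ _) :=
      inferInstanceAs (PreservesLimitsOfShape (Discrete X)
        (sheafToPresheaf _ _ ⋙ (Functor.whiskeringRight _ _ _).obj AddCommGrpCat.uliftFunctor.{u + 1}))
    exact preservesLimitsOfShape_of_reflects_of_preserves (ulSheaf X) (sheafToPresheaf _ _)
  haveI : Injective ((ulSheaf X).obj (∏ᶜ sk)) :=
    Injective.of_iso (PreservesProduct.iso (ulSheaf X) sk).symm inferInstance
  let r : Retract I (∏ᶜ sk) :=
    { i := t', r := Injective.factorThru (𝟙 I) t', retract := Injective.comp_factorThru _ _ }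
  exact (r.map (ulSheaf X)).injective

end Groth.Agent.GaCoh3
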