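import Groth.Agent.Lib.GaCoh3.GaAcyc
import Mathlib.CategoryTheory.Sites.SheafCohomology.Basic

/-!
# Vanishing of étale cohomology of affine schemes for sheaves with exact Čech complexes
-/

universe u

set_option autoImplicit false
set_option backward.isDefEq.respectTransparency false
set_option backward.isDefEq.respectTransparency.types false

open CategoryTheory CategoryTheory.Limits AlgebraicGeometry Opposite Abelian

namespace Groth.Agent.GaCoh3

variable {X : Scheme.{u}}

/-- The short exact sequence of an injective embedding. -/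
noncomputable abbrev injSeq (F : EtCoh.Ab X) : ShortComplex (EtCoh.Ab X) :=
  ShortComplex.mk (Injective.ι F) (cokernel.π (Injective.ι F)) (cokernel.condition _)

theorem injSeq_shortExact (F : EtCoh.Ab X) : (injSeq F).ShortExact :=
  { exact := ShortComplex.exact_of_g_is_cokernel _ (cokernelIsCokernel _) }

theorem acycAff_injSeq₃ {F : EtCoh.Ab X} (hF : AcycAff F) : AcycAff (injSeq F).X₃ :=
  acycAff_X₃ (injSeq_shortExact F) hF (acycAff_of_injective _)

theorem subsingleton_H_of_acycAff [IsAffine X] :
    ∀ (n : ℕ) (F : EtCoh.Ab X), AcycAff F → Subsingleton (EtCoh.H X F (n + 1)) := by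
  intro n
  induction n with
  | zero =>
    intro F hF
    refine subsingleton_of_forall_eq 0 fun x => ?_
    obtain ⟨y, rfl⟩ := Ext.covariant_sequence_exact₁ _ (injSeq_shortExact F) x (Ext.eq_zero_of_injective _)
      (n₀ := 0) rfl
    have hT := Groth.Agent.ExtShriek24.isTerminalTopObj X
    have : IsAffine (EtCoh.top X).left := ‹IsAffine X›
    obtain ⟨t, ht⟩ := surjective_of_acycAff (injSeq_shortExact F) hF (EtCoh.top X)
      (Sheaf.H.equiv₀ (injSeq F).X₃ hT y)
    obtain rfl : Sheaf.H.map (injSeq F).g 0 ((Sheaf.H.equiv₀ (injSeq F).X₂ hT).symm t) = y := by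
      apply (Sheaf.H.equiv₀ (injSeq F).X₃ hT).injective
      rw [← Sheaf.H.equiv₀_naturality, AddEquiv.apply_symm_apply]
      exact ht
    show (Ext.comp _ (Ext.mk₀ (injSeq F).g) (add_zero 0)).comp (injSeq_shortExact F).extClass rfl = 0
    exact (Ext.comp_assoc_of_second_deg_zero _ _ _ _).trans
      (by erw [(injSeq_shortExact F).comp_extClass, Ext.comp_zero])
  | succ n ih =>
    intro F hF
    refine subsingleton_of_forall_eq 0 fun x => ?_
    obtain ⟨y, rfl⟩ := Ext.covariant_sequence_exact₁ _ (injSeq_shortExact F) x (Ext.eq_zero_of_injective _)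
      (n₀ := n + 1) rfl
    rw [(ih _ (acycAff_injSeq₃ hF)).elim y 0, Ext.zero_comp]

theorem subsingleton_H_Ga [IsAffine X] (p : ℕ) (hp : 1 ≤ p) :
    Subsingleton (EtCoh.H X (EtCoh.Ga X) p) := by
  obtain ⟨n, rfl⟩ : ∃ n, p = n + 1 := ⟨p - 1, by omega⟩
  exact subsingleton_H_of_acycAff n _ acycAff_Ga

end Groth.Agent.GaCoh3
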